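import Groth.Agent.AmpleFamLib.Divisors
import Groth.Agent.BlowExistsLib.Glue
import Groth.Agent.BlowExistsLib.Proper
import Groth.Agent.BlowCompLib.Compose

/-!
Blow-ups in products of ideals of complements of affine opens have ample families.
-/

set_option autoImplicit false
set_option backward.isDefEq.respectTransparency false
set_option linter.style.haveILetI false

universe u

open CategoryTheory CategoryTheory.Limits AlgebraicGeometry TopologicalSpace Opposite
open Groth.Agent.ParaFLib Groth.Agent.PullbackMod Groth.Agent.DCohLib Groth.Agent.AmpleLib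
open Groth.Agent.BlowChartLib Groth.Agent.BlowExistsLib

noncomputable section

namespace Groth.Agent.AmpleFamLib

variable {X : Scheme.{u}}

/-- A function lying in the ideal on every affine open is a section of the ideal module. -/
theorem exists_section_of_mem (K : X.IdealSheafData) (W : X.Opens) (c : Γ(X, W))
    (h : ∀ (V : X.affineOpens) (e : V.1 ≤ W), X.presheaf.map (homOfLE e).op c ∈ K.ideal V) :
    ∃ m : Γ(ClSub.idealMod K, W), OmegaSh.idealSect K W m = c := by
  have hzero : K.subschemeι.app W c = 0 := by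
    refine TopCat.Sheaf.eq_of_locally_eq' K.subscheme.sheaf
      (fun V : {V : X.affineOpens // V.1 ≤ W} => K.subschemeι ⁻¹ᵁ V.1.1) (K.subschemeι ⁻¹ᵁ W)
      (fun V => homOfLE (K.subschemeι.preimage_mono V.2)) ?_ _ _ fun V => ?_
    · intro z hz
      obtain ⟨_, ⟨V, hV, rfl⟩, hzV, hVW⟩ := X.isBasis_affineOpens.exists_subset_of_mem_open hz W.2
      exact Opens.mem_iSup.2 ⟨⟨⟨V, hV⟩, hVW⟩, hzV⟩
    · have h1 : K.subschemeι.app V.1.1 (X.presheaf.map (homOfLE V.2).op c) = 0 := by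
        have h2 := h V.1 V.2
        rw [← Scheme.IdealSheafData.ker_subschemeι_app, RingHom.mem_ker] at h2
        exact h2
      have hn := ConcreteCategory.congr_hom (K.subschemeι.naturality (homOfLE V.2).op) c
      exact (hn.symm.trans h1).trans (map_zero (K.subscheme.presheaf.map _).hom).symm
  exact ⟨OmegaSh.kerLift (ClSub.toSubscheme K) W (OmegaSh.strSect X W c)
    ((OmegaSh.toSubscheme_app_strSect W K c).trans hzero), OmegaSh.ι_kerLift _ _ _ _⟩

/-- A basis of the ideal module on an affine open gives a regular generator. -/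
theorem ideal_eq_span_of_gen (K : X.IdealSheafData) (V : X.affineOpens) {s : Γ(ClSub.idealMod K, V.1)}
    (hs : Gen V.1 s) : OmegaSh.idealSect K V.1 s ∈ nonZeroDivisors Γ(X, V.1) ∧
      K.ideal V = Ideal.span {OmegaSh.idealSect K V.1 s} := by
  have hb := hs V.1 le_rfl
  simp only [ParaFLib.res_self] at hb
  refine ⟨mem_nonZeroDivisors_iff_right.2 fun r hr => ?_, le_antisymm (fun z hz => ?_)
    ((Ideal.span_singleton_le_iff_mem _).2 ((OmegaAffLib.mem_range_idealSect K V _).2 ⟨_, rfl⟩))⟩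
  · rw [← OmegaAffLib.idealSect_smul, ← map_zero (OmegaSh.idealSect K V.1)] at hr
    exact hb.1 ((OmegaAffLib.idealSect_injective K V.1 hr).trans (zero_smul Γ(X, V.1) _).symm)
  · obtain ⟨m, rfl⟩ := (OmegaAffLib.mem_range_idealSect K V z).1 hz
    obtain ⟨r, rfl⟩ := hb.2 m
    rw [OmegaAffLib.idealSect_smul]
    exact Ideal.mem_span_singleton.2 ⟨r, mul_comm _ _⟩

/-- A section of the ideal module which is a regular generator is a basis. -/
theorem gen_of_generator (K : X.IdealSheafData) (V : X.affineOpens) (m : Γ(ClSub.idealMod K, V.1))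
    (hm : OmegaSh.idealSect K V.1 m ∈ nonZeroDivisors Γ(X, V.1))
    (hK : K.ideal V = Ideal.span {OmegaSh.idealSect K V.1 m}) : Gen V.1 m := by
  obtain ⟨s, hs⟩ := S8914.gen_of_ideal_eq_span K V _ hm hK
  obtain ⟨hc, hcI⟩ := ideal_eq_span_of_gen K V hs
  have hb := hs V.1 le_rfl
  simp only [ParaFLib.res_self] at hb
  obtain ⟨r, rfl⟩ := hb.2 m
  refine hs.smul (isUnit_of_span_eq hc ?_)
  rw [← OmegaAffLib.idealSect_smul, ← hK, hcI]
  exact Ideal.mem_span_singleton_self _

/-- A section over an open as a global section of the restriction. -/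
def restrictSect (O : X.Opens) (M : X.Modules) (σ : Γ(M, O)) : Γ(M.restrict O.ι, ⊤) :=
  M.presheaf.map (homOfLE O.ι_image_top.le).op σ

theorem gen_restrictSect_iff (O : X.Opens) (M : X.Modules) (σ : Γ(M, O)) (W : (O : Scheme.{u}).Opens)
    (hW : O.ι ''ᵁ W ≤ O) :
    Gen W (resT (sec (secHom (M.restrict O.ι) (restrictSect O M σ))) W) ↔
      Gen (O.ι ''ᵁ W) (M.presheaf.map (homOfLE hW).op σ) := by
  rw [sec_secHom]
  have h : resT (restrictSect O M σ) W = (M.presheaf.map (homOfLE hW).op σ :) :=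
    ParaFLib.res_res (L := M) O.ι_image_top.le (O.ι.image_mono le_top) σ
  rw [h]
  exact gen_restrict_iff O.ι M W _

variable {X' : Scheme.{u}} {𝓘 : X.IdealSheafData} {b : X' ⟶ X}

set_option maxHeartbeats 1600000 in
/-- The exceptional ideal of a blow-up is ample over the affine opens of the base. -/
theorem ampleOn_preimage (hb : BlowUp.IsBlowUp b 𝓘) (hft : BlowUp.IsFiniteTypeIdeal 𝓘) (U : X.affineOpens) :
    AmpleOn (ClSub.idealMod (𝓘.comap b)) (b ⁻¹ᵁ U.1) := by
  haveI := quasiCompact_of_FG hb hft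
  let O := b ⁻¹ᵁ U.1
  let J := 𝓘.comap b
  let M := ClSub.idealMod J
  haveI : CompactSpace (O : Scheme.{u}) :=
    isCompact_iff_compactSpace.1 (QuasiCompact.isCompact_preimage _ U.1.2 U.2.isCompact)
  refine ⟨isInvertible_restrict O.ι ((S8914.result J).2 hb.1), inferInstance, fun x => ?_⟩
  obtain ⟨a, ha, hxa⟩ := BlowExistsLib.exists_mem_chartOpen hb.1 (U := U) _ (Ideal.span_eq (𝓘.ideal U)) (O.ι x) x.2
  have happ : ∀ (V : X'.affineOpens) (e : V.1 ≤ O),
      X'.presheaf.map (homOfLE e).op (b.app U.1 a) = (b.appLE U.1 V.1 e).hom a := fun V e => rfl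
  obtain ⟨σ, hσ⟩ := exists_section_of_mem J O (b.app U.1 a) fun V e => by
    rw [happ, IdealStalkLib.comap_ideal 𝓘 b U.2 V.2 e]
    exact Ideal.mem_map_of_mem _ ha
  have hσV : ∀ (V : X'.affineOpens) (e : V.1 ≤ O),
      OmegaSh.idealSect J V.1 (M.presheaf.map (homOfLE e).op σ) = (b.appLE U.1 V.1 e).hom a := fun V e => by
    rw [S8914.idealSect_res, hσ, happ]
  let N := M.restrict O.ι
  let τ : Γ(N, ⊤) := restrictSect O M σ
  let s := secHom N τ
  have key : ∀ (W : (O : Scheme.{u}).Opens) (hW : O.ι ''ᵁ W ≤ O),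
      Gen W (resT (sec s) W) ↔ Gen (O.ι ''ᵁ W) (M.presheaf.map (homOfLE hW).op σ) :=
    gen_restrictSect_iff O M σ
  have heq : O.ι ''ᵁ CohB1.genLocus N s = chartOpen 𝓘 U a b := by
    ext w
    constructor
    · rintro ⟨z, hz, rfl⟩
      obtain ⟨W, hzW, hW⟩ := mem_genLocus_iff'.1 hz
      have hWO : O.ι ''ᵁ W ≤ O := (O.ι.image_mono le_top).trans O.ι_image_top.le
      have hg := (key W hWO).1 hW
      obtain ⟨_, ⟨V, hV, rfl⟩, hzV, hVW⟩ :=
        X'.isBasis_affineOpens.exists_subset_of_mem_open (show O.ι z ∈ O.ι ''ᵁ W from ⟨z, hzW, rfl⟩) (O.ι ''ᵁ W).2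
      have hg' := hg.res (show V ≤ O.ι ''ᵁ W from hVW)
      rw [res_res] at hg'
      obtain ⟨h1, h2⟩ := ideal_eq_span_of_gen J ⟨V, hV⟩ hg'
      rw [hσV ⟨V, hV⟩] at h1 h2
      exact Opens.mem_iSup.2 ⟨⟨⟨V, hV⟩, _, h1, h2⟩, hzV⟩
    · intro hw
      obtain ⟨⟨V, e, hn, hI⟩, hwV⟩ := Opens.mem_iSup.1 hw
      have hwO : w ∈ O := e hwV
      have hg : Gen V.1 (M.presheaf.map (homOfLE e).op σ) := by
        refine gen_of_generator J V _ ?_ ?_
        · rw [hσV]; exact hn
        · rw [hσV]; exact hI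
      refine ⟨⟨w, hwO⟩, mem_genLocus_iff'.2 ⟨O.ι ⁻¹ᵁ V.1, hwV, ?_⟩, rfl⟩
      have him : O.ι ''ᵁ (O.ι ⁻¹ᵁ V.1) ≤ V.1 := by rintro _ ⟨z, hz, rfl⟩; exact hz
      refine (key _ (him.trans e)).2 ?_
      have := hg.res him
      rw [res_res] at this
      exact this
  refine ⟨0, s ≫ (powOne N).symm.hom, ?_, ?_⟩
  · rw [genLocus_comp_iso]
    have hx : O.ι x ∈ O.ι ''ᵁ CohB1.genLocus N s := heq.ge hxa
    obtain ⟨z, hz, hzx⟩ := hx
    exact O.ι.isOpenEmbedding.injective hzx ▸ hz
  · rw [genLocus_comp_iso, ← O.ι.isAffineOpen_iff_of_isOpenImmersion, heq]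
    exact isAffineOpen_chartOpen hb ha

/-- Blowing up the product of ideals of the complements of an affine open cover gives an ample family. -/
theorem exists_modification' {ι : Type*} [Finite ι] (U : ι → X.affineOpens) (hU : ∀ x, ∃ i, x ∈ (U i).1)
    (I : ι → X.IdealSheafData) (hI : ∀ i, (I i).support.compl = (U i).1)
    (hft : ∀ (i : ι) (V : X.affineOpens), ((I i).ideal V).FG) :
    ∃ (𝓙 : X.IdealSheafData) (Y : Scheme.{u}) (b : Y ⟶ X), BlowUp.IsFiniteTypeIdeal 𝓙 ∧
      (∀ x, (∀ i, x ∈ (U i).1) → x ∉ 𝓙.support) ∧ BlowUp.IsBlowUp b 𝓙 ∧ IsProper b ∧ MoreMor.HasAmpleFamily Y := by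
  classical
  haveI := Fintype.ofFinite ι
  let 𝓟 := ∏ i, I i
  have hP : BlowUp.IsFiniteTypeIdeal 𝓟 := by
    refine Finset.prod_induction I (fun K => ∀ V : X.affineOpens, (K.ideal V).FG) (fun A B hA hB V => ?_)
      (fun V => ?_) fun i _ => hft i
    · rw [Scheme.IdealSheafData.ideal_mul, Pi.mul_apply]
      exact (hA V).mul (hB V)
    · rw [Scheme.IdealSheafData.one_eq_top, Scheme.IdealSheafData.ideal_top]
      exact ⟨{1}, by simp⟩
  obtain ⟨Y, b, hb⟩ := exists_isBlowUp 𝓟
  have hD : ∀ i, BlowUp.IsEffCartierIdeal ((I i).comap b) := fun i => by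
    have h := hb.1
    rw [show 𝓟 = I i * ∏ j ∈ Finset.univ.erase i, I j from (Finset.mul_prod_erase _ _ (Finset.mem_univ i)).symm,
      BlowCompLib.comap_mul] at h
    exact BlowCompLib.isEffCartier_of_mul h
  have hcompl : ∀ i, ((I i).comap b).support.compl = b ⁻¹ᵁ (U i).1 := fun i => by
    rw [← hI i, Scheme.IdealSheafData.support_comap]
    rfl
  refine ⟨𝓟, Y, b, hP, fun x hx => ?_, hb, isProper_of_FG hb hP, hasAmpleFamily_of_divisors (fun i => (I i).comap b) hD ?_
    (fun _ => ClSub.idealMod (𝓟.comap b)) (fun _ => (S8914.result _).2 hb.1) (fun i => ?_)⟩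
  rotate_left
  · refine Set.eq_empty_of_forall_notMem fun y hy => ?_
    obtain ⟨i, hi⟩ := hU (b y)
    exact ((hcompl i).ge (show y ∈ b ⁻¹ᵁ (U i).1 from hi)) (Set.mem_iInter.1 hy i)
  · rw [hcompl i]
    exact ampleOn_preimage hb hP (U i)
  · refine Finset.prod_induction I (fun K => x ∉ K.support) (fun A B hA hB h => ?_) (fun h => ?_) fun i _ h => ?_
    · rw [Scheme.IdealSheafData.support_mul] at h
      exact h.elim hA hB
    · rw [Scheme.IdealSheafData.one_eq_top, Scheme.IdealSheafData.support_top] at h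
      exact h
    · exact ((hI i).ge (hx i)) h

/-- The modification is an isomorphism over the intersection of the cover. -/
theorem exists_modification {ι : Type*} [Finite ι] (U : ι → X.affineOpens) (hU : ∀ x, ∃ i, x ∈ (U i).1)
    (I : ι → X.IdealSheafData) (hI : ∀ i, (I i).support.compl = (U i).1)
    (hft : ∀ (i : ι) (V : X.affineOpens), ((I i).ideal V).FG) :
    ∃ (Y : Scheme.{u}) (b : Y ⟶ X), IsProper b ∧ MoreMor.HasAmpleFamily Y ∧
      ∀ x, (∀ i, x ∈ (U i).1) → ∃ W : X.Opens, x ∈ W ∧ IsIso (b ∣_ W) := by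
  obtain ⟨𝓙, Y, b, -, hoff, hb, hp, hY⟩ := exists_modification' U hU I hI hft
  exact ⟨Y, b, hp, hY, fun x hx => ⟨𝓙.support.compl, hoff x hx, BlowCompLib.isIso_restrict 𝓙 b hb⟩⟩

end Groth.Agent.AmpleFamLib
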