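import Groth.Agent.AmpleFamLib.Divisors
import Mathlib.AlgebraicGeometry.QuasiAffine

/-!
An open containing a given point and all points of codimension at most one with an ample family.
-/

set_option autoImplicit false
set_option linter.style.haveILetI false

universe u

open CategoryTheory CategoryTheory.Limits AlgebraicGeometry TopologicalSpace Opposite
open Groth.Agent.ParaFLib Groth.Agent.PullbackMod Groth.Agent.DCohLib Groth.Agent.AmpleLib

noncomputable section

namespace Groth.Agent.AmpleFamLib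

variable {X : Scheme.{u}}

/-- Local functions which are units on the overlaps define an invertible module with a section. -/
theorem exists_section_of_units {ι : Type u} (W : ι → X.Opens) (hW : iSup W = ⊤) (a : ∀ i, Γ(X, W i))
    (hu : ∀ i j, i ≠ j → W i ⊓ W j ≤ X.basicOpen (a i)) :
    ∃ (L : X.Modules) (s : Coh.structureModule X ⟶ L), PicF.IsInvertible L ∧
      ∀ i, CohB1.genLocus L s ⊓ W i = X.basicOpen (a i) := by
  classical
  have hunit : ∀ i j, i ≠ j → IsUnit (X.presheaf.map (homOfLE (inf_le_left : W i ⊓ W j ≤ W i)).op (a i)) ∧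
      IsUnit (X.presheaf.map (homOfLE (inf_le_right : W i ⊓ W j ≤ W j)).op (a j)) := fun i j h => by
    constructor
    · refine RingedSpace.isUnit_of_isUnit_germ X.toRingedSpace _ _ fun w hw => ?_
      rw [TopCat.Presheaf.germ_res_apply]
      exact (X.mem_basicOpen (a i) w hw.1).1 (hu i j h hw)
    · refine RingedSpace.isUnit_of_isUnit_germ X.toRingedSpace _ _ fun w hw => ?_
      rw [TopCat.Presheaf.germ_res_apply]
      exact (X.mem_basicOpen (a j) w hw.2).1 (hu j i h.symm ⟨hw.2, hw.1⟩)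
  -- `e i = (a j / a i) • e j`
  let η : ∀ i j, (Γ(X, W i ⊓ W j))ˣ := fun i j =>
    if h : i = j then 1 else (hunit i j h).2.unit * (hunit i j h).1.unit⁻¹
  have hη : ∀ i j, (η i j : Γ(X, W i ⊓ W j)) * X.presheaf.map (homOfLE inf_le_left).op (a i) =
      X.presheaf.map (homOfLE inf_le_right).op (a j) := fun i j => by
    by_cases h : i = j
    · subst h
      simp [η]
    · simp only [η, dif_neg h, Units.val_mul, mul_assoc, IsUnit.val_inv_mul, mul_one, IsUnit.unit_spec]
  have hc : IsCocycle W η := by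
    intro i j k
    by_cases hij : i = j
    · subst hij
      simp only [η, dif_pos, Units.val_one, map_one, one_mul]
    by_cases hjk : j = k
    · subst hjk
      simp only [η, dif_pos, Units.val_one, map_one, mul_one]
    let V := W i ⊓ W j ⊓ W k
    have hui : IsUnit (X.presheaf.map (homOfLE (inf_le_left.trans inf_le_left : V ≤ W i)).op (a i)) := by
      have h := (hunit i j hij).1.map (X.presheaf.map (homOfLE (inf_le_left : V ≤ W i ⊓ W j)).op).hom
      rw [← CommRingCat.comp_apply, ← Functor.map_comp] at h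
      exact h
    refine hui.mul_right_cancel ?_
    have e1 := congrArg (X.presheaf.map (homOfLE (inf_le_inf_right (W k) inf_le_left : V ≤ W i ⊓ W k)).op) (hη i k)
    have e2 := congrArg (X.presheaf.map (homOfLE (inf_le_left : V ≤ W i ⊓ W j)).op) (hη i j)
    have e3 := congrArg (X.presheaf.map (homOfLE (inf_le_inf_right (W k) inf_le_right : V ≤ W j ⊓ W k)).op) (hη j k)
    simp only [map_mul, ← CommRingCat.comp_apply, ← Functor.map_comp, ← op_comp, homOfLE_comp] at e1 e2 e3
    linear_combination e1 - e3 - X.presheaf.map (homOfLE (inf_le_inf_right (W k) inf_le_right : V ≤ W j ⊓ W k)).op (η j k : Γ(X, W j ⊓ W k)) * e2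
  obtain ⟨L, e, hL, he, hee⟩ := exists_invertible_of_cocycle W η hW hc
  obtain ⟨σ, hσ, -⟩ := TopCat.Sheaf.existsUnique_gluing' (C := Ab.{u}) ⟨L.presheaf, L.isSheaf⟩ W ⊤
    (fun i => homOfLE le_top) hW.ge (fun i => (a i • e i : Γ(L, W i))) (fun i j => by
      show L.presheaf.map (homOfLE inf_le_left).op (a i • e i) = L.presheaf.map (homOfLE inf_le_right).op (a j • e j)
      rw [L.map_smul, L.map_smul, hee i j, smul_smul, mul_comm, hη])
  refine ⟨L, secHom L σ, hL, fun i => genLocus_inf_eq_basicOpen _ (he i) ?_⟩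
  rw [sec_secHom]
  exact (hσ i).symm

section Top

/-- A point without proper generalisation. -/
def IsMinPt (v : X) : Prop := ∀ w : X, w ⤳ v → w = v

/-- An open containing all points without proper generalisation. -/
def IsBig (O : X.Opens) : Prop := ∀ v : X, IsMinPt v → v ∈ O

theorem exists_isMinPt (w : X) : ∃ v : X, IsMinPt v ∧ v ⤳ w := by
  obtain ⟨η, hη⟩ := QuasiSober.sober (isIrreducible_irreducibleComponent (x := w)) isClosed_irreducibleComponent
  refine ⟨η, fun v hv => ?_, hη.specializes mem_irreducibleComponent⟩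
  refine Specializes.antisymm hv (hη.specializes ?_) |>.eq
  rw [← (irreducibleComponent_property w).2.2 _ isIrreducible_singleton.closure.isPreirreducible
    (hη.def.ge.trans (closure_minimal (Set.singleton_subset_iff.2 hv.mem_closure) isClosed_closure))]
  exact subset_closure rfl

variable [IsNoetherian X]

/-- Finitely many maximal points in a closed set. -/
theorem finite_maximal {C : Set X} (hC : IsClosed C) : {z ∈ C | ∀ w ∈ C, w ⤳ z → w = z}.Finite := by
  obtain ⟨S, hSf, hSc, hSi, hS⟩ := NoetherianSpace.exists_finite_set_isClosed_irreducible hC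
  have hgen : ∀ t : S, ∃ η : X, IsGenericPoint η t.1 := fun t => QuasiSober.sober (hSi t t.2) (hSc t t.2)
  choose g hg using hgen
  haveI := hSf.to_subtype
  refine (Set.finite_range g).subset fun z hz => ?_
  obtain ⟨t, ht, hzt⟩ := Set.mem_sUnion.1 (hS ▸ hz.1)
  exact ⟨⟨t, ht⟩, hz.2 _ (hS.ge (Set.mem_sUnion.2 ⟨t, ht, (hg ⟨t, ht⟩).mem⟩)) ((hg ⟨t, ht⟩).specializes hzt)⟩

/-- Near a maximal point `z` of a closed set, the set is the closure of `z`. -/
theorem exists_nhd_maximal {C : Set X} (hC : IsClosed C) {z : X} (hz : ∀ w ∈ C, w ⤳ z → w = z) :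
    ∃ N : X.Opens, z ∈ N ∧ ∀ w ∈ N, w ∈ C → z ⤳ w := by
  classical
  obtain ⟨S, hSf, hSc, hSi, hS⟩ := NoetherianSpace.exists_finite_set_isClosed_irreducible hC
  haveI : Finite {t : Set X // t ∈ S ∧ z ∉ t} :=
    (hSf.subset fun t (ht : t ∈ S ∧ z ∉ t) => ht.1).to_subtype
  let N : X.Opens := ⟨(⋃ t : {t : Set X // t ∈ S ∧ z ∉ t}, t.1)ᶜ,
    (isClosed_iUnion_of_finite (s := fun t : {t : Set X // t ∈ S ∧ z ∉ t} => t.1)
      fun t => hSc t.1 t.2.1).isOpen_compl⟩
  refine ⟨N, fun h => ?_, fun w hw hwC => ?_⟩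
  · obtain ⟨t, ht⟩ := Set.mem_iUnion.1 h
    exact t.2.2 ht
  · obtain ⟨t, ht, hwt⟩ := Set.mem_sUnion.1 (hS ▸ hwC)
    by_cases hzt : z ∈ t
    · obtain ⟨η, hη⟩ := QuasiSober.sober (hSi t ht) (hSc t ht)
      have := hz η (hS.ge (Set.mem_sUnion.2 ⟨t, ht, hη.mem⟩)) (hη.specializes hzt)
      exact this ▸ hη.specializes hwt
    · exact absurd (Set.mem_iUnion.2 ⟨⟨t, ht, hzt⟩, hwt⟩) hw

theorem finite_isMinPt : {v : X | IsMinPt v}.Finite :=
  (finite_maximal isClosed_univ).subset fun v hv => ⟨trivial, fun w _ hw => hv w hw⟩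

omit [AlgebraicGeometry.IsNoetherian X] in
/-- An affine big open around a point, given finitely many minimal points. -/
theorem exists_affine_big_of_finite (hM : {v : X | IsMinPt v}.Finite) (p : X) :
    ∃ U : X.affineOpens, p ∈ U.1 ∧ IsBig U.1 := by
  classical
  obtain ⟨_, ⟨U₁, hU₁, rfl⟩, hpU, -⟩ := X.isBasis_affineOpens.exists_subset_of_mem_open (Set.mem_univ p) isOpen_univ
  let M := {v : X // IsMinPt v ∧ v ∉ U₁}
  haveI : Finite M := (hM.subset fun v (hv : IsMinPt v ∧ v ∉ U₁) => hv.1).to_subtype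
  have hsep : ∀ m : M, ∃ A : X.Opens, IsAffineOpen A ∧ m.1 ∈ A ∧ ∀ w ∈ A, ∀ v, IsMinPt v → v ⤳ w → v = m.1 := by
    intro m
    haveI : Finite {v : X // IsMinPt v ∧ v ≠ m.1} :=
      (hM.subset fun v (hv : IsMinPt v ∧ v ≠ m.1) => hv.1).to_subtype
    let N : X.Opens := ⟨(⋃ v : {v : X // IsMinPt v ∧ v ≠ m.1}, closure {v.1})ᶜ,
      (isClosed_iUnion_of_finite fun v => isClosed_closure).isOpen_compl⟩
    have hm : m.1 ∈ N := fun h => by
      obtain ⟨v, hv⟩ := Set.mem_iUnion.1 h
      exact v.2.2 (m.2.1 v.1 (specializes_iff_mem_closure.2 hv))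
    obtain ⟨_, ⟨A, hA, rfl⟩, hmA, hAN⟩ := X.isBasis_affineOpens.exists_subset_of_mem_open hm N.2
    refine ⟨A, hA, hmA, fun w hw v hv hvw => ?_⟩
    by_contra hne
    exact hAN hw (Set.mem_iUnion.2 ⟨⟨v, hv, hne⟩, specializes_iff_mem_closure.1 hvw⟩)
  choose A hA hmA hAv using hsep
  have hAdisj : Pairwise (fun m m' : M => Disjoint (A m) (A m')) := fun m m' hne => by
    show Disjoint (A m) (A m')
    rw [← Opens.coe_disjoint, Set.disjoint_left]
    intro w hw hw'
    obtain ⟨v, hv, hvw⟩ := exists_isMinPt w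
    exact hne (Subtype.ext ((hAv m w hw v hv hvw).symm.trans (hAv m' w hw' v hv hvw)))
  refine ⟨⟨U₁ ⊔ ⨆ m, A m, hU₁.sup_of_disjoint (IsAffineOpen.iSup_of_disjoint hA hAdisj) ?_⟩, Or.inl hpU,
    fun v hv => ?_⟩
  · rw [← Opens.coe_disjoint, Set.disjoint_left]
    intro w hw hw'
    obtain ⟨m, hm⟩ := Opens.mem_iSup.1 hw'
    obtain ⟨v, hv, hvw⟩ := exists_isMinPt w
    by_cases hvU : v ∈ U₁
    · exact m.2.2 (hAv m w hm v hv hvw ▸ hvU)
    · exact hvU (hvw.mem_open U₁.2 hw)
  · by_cases hvU : v ∈ U₁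
    · exact Or.inl hvU
    · exact Or.inr (Opens.mem_iSup.2 ⟨⟨v, hv, hvU⟩, hmA ⟨v, hv, hvU⟩⟩)

/-- An affine big open around a point. -/
theorem exists_affine_big (p : X) : ∃ U : X.affineOpens, p ∈ U.1 ∧ IsBig U.1 :=
  exists_affine_big_of_finite finite_isMinPt p

omit [AlgebraicGeometry.IsNoetherian X] in
/-- Finitely many irreducible components give finitely many minimal points. -/
theorem finite_isMinPt_of_components (h : (irreducibleComponents ↥X).Finite) : {v : X | IsMinPt v}.Finite := by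
  haveI := h.to_subtype
  choose g hg using fun C : irreducibleComponents ↥X => QuasiSober.sober C.2.1 (isClosed_of_mem_irreducibleComponents C.1 C.2)
  refine (Set.finite_range g).subset fun v hv => ?_
  refine ⟨⟨irreducibleComponent v, irreducibleComponent_mem_irreducibleComponents v⟩, hv _ ?_⟩
  exact (hg _).specializes mem_irreducibleComponent

omit [AlgebraicGeometry.IsNoetherian X] in
/-- A function vanishing on a closed set and not vanishing at finitely many points outside it. -/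
theorem exists_function {U : X.Opens} (hU : IsAffineOpen U) {C : Set X} (hC : IsClosed C)
    {T : Set X} (hT : T.Finite) (hTU : T ⊆ U) (hTC : Disjoint T C) :
    ∃ f : Γ(X, U), (∀ w ∈ X.basicOpen f, w ∉ C) ∧ T ⊆ X.basicOpen f := by
  classical
  let C' : Set (PrimeSpectrum Γ(X, U)) := hU.fromSpec ⁻¹' C
  have hC' : IsClosed C' := hC.preimage hU.fromSpec.continuous
  let I := PrimeSpectrum.vanishingIdeal C'
  have hz : PrimeSpectrum.zeroLocus (I : Set Γ(X, U)) = C' := by
    rw [PrimeSpectrum.zeroLocus_vanishingIdeal_eq_closure, hC'.closure_eq]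
  haveI := hT.to_subtype
  have hmem : ∀ (f : Γ(X, U)) (w : U), (w : X) ∈ X.basicOpen f ↔ f ∉ (hU.primeIdealOf w).asIdeal := fun f w => by
    have h : hU.primeIdealOf w ∈ hU.fromSpec ⁻¹ᵁ X.basicOpen f ↔ f ∉ (hU.primeIdealOf w).asIdeal := by
      rw [hU.fromSpec_preimage_basicOpen]
      exact Iff.rfl
    exact (iff_of_eq (congrArg (· ∈ X.basicOpen f) (hU.fromSpec_primeIdealOf w).symm)).trans h
  obtain ⟨f, hfI, hf⟩ : ∃ f ∈ I, ∀ t : T, f ∉ (hU.primeIdealOf ⟨t.1, hTU t.2⟩).asIdeal := by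
    by_contra h
    push Not at h
    rcases isEmpty_or_nonempty T with hT0 | ⟨⟨t₀⟩⟩
    · obtain ⟨t, -⟩ := h 0 (zero_mem I)
      exact hT0.false t
    obtain ⟨t, -, ht⟩ := (Ideal.subset_union_prime_finite (s := (Set.univ : Set T)) Set.finite_univ
      (f := fun t : T => (hU.primeIdealOf ⟨t.1, hTU t.2⟩).asIdeal) t₀ t₀ (fun i _ _ _ => inferInstance)).1
      (fun f hf => Set.mem_iUnion₂.2 (by
        obtain ⟨t, ht⟩ := h f hf
        exact ⟨t, trivial, ht⟩))
    have : hU.primeIdealOf ⟨t.1, hTU t.2⟩ ∈ C' := hz.le fun f hf => ht hf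
    have h2 : hU.fromSpec (hU.primeIdealOf ⟨t.1, hTU t.2⟩) ∈ C := this
    rw [hU.fromSpec_primeIdealOf] at h2
    exact Set.disjoint_left.1 hTC t.2 h2
  refine ⟨f, fun w hw hwC => ?_, fun t ht => (hmem f ⟨t, hTU ht⟩).2 (hf ⟨t, ht⟩)⟩
  refine (hmem f ⟨w, X.basicOpen_le f hw⟩).1 hw ((PrimeSpectrum.mem_vanishingIdeal _ _).1 hfI _ ?_)
  show hU.fromSpec _ ∈ C
  rw [hU.fromSpec_primeIdealOf]
  exact hwC

omit [AlgebraicGeometry.IsNoetherian X] in
/-- The generalisations of a point of codimension at most one are minimal. -/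
theorem isMinPt_of_specializes {z w : X} (hz : ringKrullDim (X.presheaf.stalk z) ≤ 1) (h : w ⤳ z) (hne : w ≠ z) :
    IsMinPt w := by
  intro v hv
  by_contra hvw
  rw [ringKrullDim_stalk_eq_coheight] at hz
  have h1 : z < w := ⟨h, fun h' => hne (Specializes.antisymm h h').eq⟩
  have h2 : w < v := ⟨hv, fun h' => hvw (Specializes.antisymm hv h').eq⟩
  have e1 := Order.coheight_add_one_le h1
  have e2 := Order.coheight_add_one_le h2
  have e3 : (2 : ℕ∞) ≤ Order.coheight z := by
    refine le_trans ?_ e1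
    have : (1 : ℕ∞) ≤ Order.coheight w := le_trans le_add_self e2
    calc (2 : ℕ∞) = 1 + 1 := by norm_num
      _ ≤ _ := by gcongr
  have e4 : Order.coheight z ≤ 1 := by exact_mod_cast hz
  exact absurd (e3.trans e4) (by norm_num)

/-- Each point has a neighbourhood containing all points of codimension at most one with an ample family. -/
theorem exists_ampleFamily_nhd (x : X) :
    ∃ V : X.Opens, x ∈ V ∧ (∀ y : X, ringKrullDim (X.presheaf.stalk y) ≤ 1 → y ∈ V) ∧
      MoreMor.HasAmpleFamily (V : Scheme.{u}) := by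
  classical
  obtain ⟨U₀, hxU₀, hU₀⟩ := exists_affine_big x
  let Z := {z : X // ringKrullDim (X.presheaf.stalk z) ≤ 1 ∧ z ∉ U₀.1}
  haveI : Finite Z := ((finite_maximal U₀.1.2.isClosed_compl).subset fun z (hz : _ ∧ _) =>
    show z ∈ _ ∧ _ from ⟨hz.2, fun w hw hwz => by_contra fun hne =>
      hw (hU₀ w (isMinPt_of_specializes hz.1 hwz hne))⟩).to_subtype
  choose A hzA hA using fun z : Z => exists_affine_big z.1
  -- functions on `U₀` cutting out opens inside the `A z`
  have hf : ∀ z : Z, ∃ f : Γ(X, U₀.1), X.basicOpen f ≤ (A z).1 ∧ IsBig (X.basicOpen f) := fun z => by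
    obtain ⟨f, hf, hT⟩ := exists_function U₀.2 (A z).1.2.isClosed_compl finite_isMinPt hU₀
      (Set.disjoint_left.2 fun v hv h => h (hA z v hv))
    exact ⟨f, fun w hw => by_contra (hf w hw), fun v hv => hT hv⟩
  choose f hfA hfbig using hf
  -- local equations
  have hh : ∀ z : Z, ∃ h : Γ(X, (A z).1), z.1 ∉ X.basicOpen h ∧ IsBig (X.basicOpen h) := fun z => by
    obtain ⟨h, hh, hT⟩ := exists_function (A z).2 (isClosed_closure (s := {z.1})) finite_isMinPt (hA z)
      (Set.disjoint_left.2 fun v hv hvc => z.2.2 ((hv z.1 (specializes_iff_mem_closure.2 hvc)) ▸ hU₀ v hv))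
    exact ⟨h, fun hz => hh _ hz (subset_closure rfl), fun v hv => hT hv⟩
  choose h hzh hhbig using hh
  have hmax : ∀ (z : Z) (O : X.Opens), IsBig O → z.1 ∉ O → ∃ N : X.Opens, z.1 ∈ N ∧ ∀ w ∈ N, w ∉ O → z.1 ⤳ w :=
    fun z O hO hzO => exists_nhd_maximal O.2.isClosed_compl fun w hw hwz => by_contra fun hne =>
      hw (hO w (isMinPt_of_specializes z.2.1 hwz hne))
  have hzf : ∀ z y : Z, z.1 ∉ X.basicOpen (f y) := fun z y hz => z.2.2 (X.basicOpen_le (f y) hz)
  choose N₀ hN₀ hN₀' using fun z : Z => hmax z U₀.1 hU₀ z.2.2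
  choose N₁ hN₁ hN₁' using fun z y : Z => hmax z (X.basicOpen (f y)) (hfbig y) (hzf z y)
  choose N₂ hN₂ hN₂' using fun z : Z => hmax z (X.basicOpen (h z)) (hhbig z) (hzh z)
  let S : Z → X.Opens := fun z => ⟨(⋃ y : {y : Z // y ≠ z}, closure {y.1.1})ᶜ,
    (isClosed_iUnion_of_finite fun y => isClosed_closure).isOpen_compl⟩
  let W : Z → X.Opens := fun z => (A z).1 ⊓ N₀ z ⊓ N₂ z ⊓ S z ⊓ ⟨⋂ y, (N₁ z y : Set X),
    isOpen_iInter_of_finite fun y => (N₁ z y).2⟩
  have hzW : ∀ z, z.1 ∈ W z := fun z => ⟨⟨⟨⟨hzA z, hN₀ z⟩, hN₂ z⟩, fun hs => by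
    obtain ⟨y, hy⟩ := Set.mem_iUnion.1 hs
    have hyz : y.1.1 ⤳ z.1 := specializes_iff_mem_closure.2 hy
    by_cases he : y.1.1 = z.1
    · exact y.2 (Subtype.ext he)
    · exact y.1.2.2 (hU₀ _ (isMinPt_of_specializes z.2.1 hyz he))⟩, Set.mem_iInter.2 fun y => hN₁ z y⟩
  -- off `U₀`, the opens `W z` consist of specialisations of `z`
  have key : ∀ (z : Z) (w : X), w ∈ W z →
      (w ∈ U₀.1 → w ∈ X.basicOpen (h z) ∧ ∀ y, w ∈ X.basicOpen (f y)) ∧ (w ∉ U₀.1 → z.1 ⤳ w) := by
    rintro z w ⟨⟨⟨⟨-, h0⟩, h2⟩, -⟩, h1⟩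
    refine ⟨fun hw => ⟨by_contra fun hn => ?_, fun y => by_contra fun hn => ?_⟩, hN₀' z w h0⟩
    · exact z.2.2 ((hN₂' z w h2 hn).mem_open U₀.1.2 hw)
    · exact z.2.2 ((hN₁' z y w (Set.mem_iInter.1 h1 y) hn).mem_open U₀.1.2 hw)
  have hdisj : ∀ (z z' : Z) (w : X), z ≠ z' → w ∈ W z → w ∈ W z' → w ∈ U₀.1 := fun z z' w hne hw hw' => by
    by_contra hn
    exact hw'.1.2 (Set.mem_iUnion.2 ⟨⟨z, hne⟩, specializes_iff_mem_closure.1 ((key z w hw).2 hn)⟩)
  let V : X.Opens := U₀.1 ⊔ ⨆ z, W z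
  let U' : Option Z → X.Opens := fun i => i.elim U₀.1 W
  have hU'V : ∀ i, U' i ≤ V := fun i => match i with
    | none => le_sup_left
    | some z => (le_iSup W z).trans le_sup_right
  have hcov : iSup (fun i => V.ι ⁻¹ᵁ U' i) = ⊤ := top_le_iff.1 fun w _ => by
    rcases w.2 with hw | hw
    · exact Opens.mem_iSup.2 ⟨none, hw⟩
    · obtain ⟨z, hz⟩ := Opens.mem_iSup.1 hw
      exact Opens.mem_iSup.2 ⟨some z, hz⟩
  have hWA : ∀ z, W z ≤ (A z).1 := fun z w hw => hw.1.1.1.1
  -- the sections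
  have hsec : ∀ a : ∀ i, Γ(X, U' i), (∀ i j, i ≠ j → ∀ w ∈ U' i, w ∈ U' j → w ∈ X.basicOpen (a i)) →
      ∃ (L : (V : Scheme.{u}).Modules) (s : Coh.structureModule (V : Scheme.{u}) ⟶ L), PicF.IsInvertible L ∧
        ∀ w, w ∈ CohB1.genLocus L s ↔ ∃ i, V.ι w ∈ X.basicOpen (a i) := fun a ha => by
    obtain ⟨L, s, hL, hs⟩ := exists_section_of_units (fun i => V.ι ⁻¹ᵁ U' i) hcov (fun i => V.ι.app (U' i) (a i))
      fun i j hij w hw => by
        rw [← Scheme.preimage_basicOpen]
        exact ha i j hij (V.ι w) hw.1 hw.2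
    refine ⟨L, s, hL, fun w => ⟨fun hw => ?_, fun ⟨i, hi⟩ => ?_⟩⟩
    · obtain ⟨i, hi⟩ := Opens.mem_iSup.1 (hcov.ge (Opens.mem_top w))
      refine ⟨i, ?_⟩
      have := (hs i).le ⟨hw, hi⟩
      rwa [← Scheme.preimage_basicOpen] at this
    · refine ((hs i).ge ?_).1
      rw [← Scheme.preimage_basicOpen]
      exact hi
  -- values of the sections
  let g : Z → ∀ z, Γ(X, W z) := fun y z => if z = y then 1 else X.presheaf.map (homOfLE (hWA z)).op (h z)
  have hg1 : ∀ z, g z z = 1 := fun z => if_pos rfl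
  have hg2 : ∀ y z, z ≠ y → g y z = X.presheaf.map (homOfLE (hWA z)).op (h z) := fun y z e => if_neg e
  let a : Option Z → ∀ i : Option Z, Γ(X, U' i) := fun t i => match t, i with
    | none, none => 1
    | none, some z => X.presheaf.map (homOfLE (hWA z)).op (h z)
    | some y, none => f y
    | some y, some z => g y z
  have hres : ∀ z (w : X), w ∈ W z → w ∈ U₀.1 → w ∈ X.basicOpen (X.presheaf.map (homOfLE (hWA z)).op (h z)) :=
    fun z w hw hw0 => by
      rw [Scheme.basicOpen_res]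
      exact ⟨hw, ((key z w hw).1 hw0).1⟩
  have hone : ∀ {O : X.Opens} (w : X), w ∈ O → w ∈ X.basicOpen (1 : Γ(X, O)) := fun w hw => by
    rw [Scheme.basicOpen_of_isUnit X isUnit_one]
    exact hw
  have ha : ∀ t i j, i ≠ j → ∀ w ∈ U' i, w ∈ U' j → w ∈ X.basicOpen (a t i) := by
    intro t i j hij w hwi hwj
    have hw0 : w ∈ U₀.1 := by
      rcases i with _ | z
      · exact hwi
      · rcases j with _ | z'
        · exact hwj
        · exact hdisj z z' w (fun e => hij (congrArg some e)) hwi hwj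
    rcases t with _ | y <;> rcases i with _ | z
    · exact hone w hwi
    · exact hres z w hwi hw0
    · rcases j with _ | z'
      · exact absurd rfl hij
      · exact ((key z' w hwj).1 hw0).2 y
    · show w ∈ X.basicOpen (g y z)
      by_cases he : z = y
      · subst he
        rw [hg1]
        exact hone w hwi
      · rw [hg2 y z he]
        exact hres z w hwi hw0
  choose L s hL hs using fun t => hsec (a t) (ha t)
  let T : Option Z → X.affineOpens := fun t => t.elim U₀ A
  have hsub : ∀ t, CohB1.genLocus (L t) (s t) ≤ V.ι ⁻¹ᵁ (T t).1 := by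
    intro t w hw
    obtain ⟨i, hi⟩ := (hs t w).1 hw
    show V.ι w ∈ (T t).1
    rcases t with _ | y <;> rcases i with _ | z
    · exact X.basicOpen_le _ hi
    · change V.ι w ∈ X.basicOpen (X.presheaf.map (homOfLE (hWA z)).op (h z)) at hi
      rw [Scheme.basicOpen_res] at hi
      by_contra hn
      exact hzh z (((key z _ hi.1).2 hn).mem_open (X.basicOpen (h z)).2 hi.2)
    · exact hfA y hi
    · change V.ι w ∈ X.basicOpen (g y z) at hi
      by_cases he : z = y
      · subst he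
        exact hWA z (X.basicOpen_le _ hi)
      · rw [hg2 y z he, Scheme.basicOpen_res] at hi
        by_cases hw0 : V.ι w ∈ U₀.1
        · exact hfA y (((key z _ hi.1).1 hw0).2 y)
        · exact absurd (((key z _ hi.1).2 hw0).mem_open (X.basicOpen (h z)).2 hi.2) (hzh z)
  refine ⟨V, Or.inl hxU₀, fun y hy => ?_, hasAmpleFamily_of_sections L hL s (fun w => ?_)
    (fun _ => Coh.structureModule _) (fun _ => ParaFLib.isInvertible_structureModule) fun t => ?_⟩
  · by_cases hy0 : y ∈ U₀.1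
    · exact Or.inl hy0
    · exact Or.inr (Opens.mem_iSup.2 ⟨⟨y, hy, hy0⟩, hzW _⟩)
  · by_cases hw0 : V.ι w ∈ U₀.1
    · exact ⟨none, (hs none w).2 ⟨none, hone _ hw0⟩⟩
    · obtain ⟨z, hz⟩ := Opens.mem_iSup.1 (w.2.resolve_left hw0)
      refine ⟨some z, (hs (some z) w).2 ⟨some z, ?_⟩⟩
      show V.ι w ∈ X.basicOpen (g z z)
      rw [hg1]
      exact hone _ hz
  · let G := CohB1.genLocus (L t) (s t)
    haveI : NoetherianSpace (V : Scheme.{u}) := V.ι.isOpenEmbedding.isInducing.noetherianSpace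
    haveI : CompactSpace (G : Scheme.{u}) := isCompact_iff_compactSpace.1 (NoetherianSpace.isCompact _)
    haveI : IsAffine (T t).1 := (T t).2
    let j : (G : Scheme.{u}) ⟶ (T t).1 := IsOpenImmersion.lift (T t).1.ι (G.ι ≫ V.ι) (by
      rintro _ ⟨w, rfl⟩
      rw [Scheme.Opens.range_ι]
      exact hsub t w.2)
    haveI : IsOpenImmersion j := by
      have e : j ≫ (T t).1.ι = G.ι ≫ V.ι := IsOpenImmersion.lift_fac _ _ _
      have : IsOpenImmersion (j ≫ (T t).1.ι) := by
        rw [e]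
        infer_instance
      exact IsOpenImmersion.of_comp j (T t).1.ι
    haveI : (G : Scheme.{u}).IsQuasiAffine := Scheme.IsQuasiAffine.of_isImmersion j
    exact isAmple_of_iso (restrictUnit G.ι).symm (isQuasiAffine_iff.1 inferInstance)

end Top

end Groth.Agent.AmpleFamLib
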