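import Groth.Agent.DCohLib.ProjFlf
import Groth.Agent.DCohMore.FinPushRes
import Groth.Agent.BCLib.TensorQCoh
import Groth.Agent.DCohLib.QCohAbelian
import Groth.Agent.CMRegLib.Family
import Groth.Agent.AmpleLib.Product
import Groth.Agent.ProjBundleLib.FTQuot

/-!
The projection map for coherent modules: an isomorphism where the twist is free, an epimorphism
over affine opens with affine preimage.
-/

set_option autoImplicit false
set_option backward.isDefEq.respectTransparency false
set_option linter.style.haveILetI false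

universe u

open CategoryTheory CategoryTheory.Limits AlgebraicGeometry TopologicalSpace
open Groth.Agent.DCohLib

noncomputable section

namespace Groth.Agent.AmpleFamLib

variable {X Y : Scheme.{u}} (f : X ⟶ Y) (V : Y.Opens)

theorem isIso_restrict_projMap_of_free {E : Y.Modules} {n : ℕ}
    (e : (Scheme.Modules.restrictFunctor V.ι).obj E ≅ FlatMod.freeMod (V : Scheme.{u}) n) (M : X.Modules) :
    IsIso ((Scheme.Modules.restrictFunctor V.ι).map (projMap f M E)) := by
  let R := Scheme.Modules.restrictFunctor V.ι
  let adj := CxOX.extZeroAdj V.ι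
  let c := adj.counit.app E
  let W := f ⁻¹ᵁ V
  haveI : IsIso (adj.unit.app (R.obj E)) := inferInstance
  haveI : IsIso (R.map c) :=
    IsIso.of_isIso_fac_left (adj.right_triangle_components E)
  have h1 : IsIso (R.map (projMap f M ((CxOX.extZero V.ι).obj (R.obj E)))) :=
    isIso_restrict_projTrans_free f V M n e
  have h2 : IsIso (R.map (((DCoh.tensorBi (X := Y)).obj ((Scheme.Modules.pushforward f).obj M)).map c)) :=
    (NatIso.isIso_map_iff (restrictTensorBiIso V.ι ((Scheme.Modules.pushforward f).obj M)) c).2
      (inferInstanceAs (IsIso (((DCoh.tensorBi (X := (V : Scheme.{u}))).obj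
        (R.obj ((Scheme.Modules.pushforward f).obj M))).map (R.map c))))
  have h3 : IsIso ((Scheme.Modules.restrictFunctor W.ι).map ((Scheme.Modules.pullback f).map c)) :=
    (NatIso.isIso_map_iff (pullResIso f V) c).2
      (inferInstanceAs (IsIso ((Scheme.Modules.pullback (f ∣_ V)).map (R.map c))))
  have h4 : IsIso ((Scheme.Modules.restrictFunctor W.ι).map
      (((DCoh.tensorBi (X := X)).obj M).map ((Scheme.Modules.pullback f).map c))) :=
    haveI := h3
    (NatIso.isIso_map_iff (restrictTensorBiIso W.ι M) _).2
      (inferInstanceAs (IsIso (((DCoh.tensorBi (X := (W : Scheme.{u}))).obj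
        ((Scheme.Modules.restrictFunctor W.ι).obj M)).map
          ((Scheme.Modules.restrictFunctor W.ι).map ((Scheme.Modules.pullback f).map c)))))
  have h5 : IsIso (R.map ((Scheme.Modules.pushforward f).map
      (((DCoh.tensorBi (X := X)).obj M).map ((Scheme.Modules.pullback f).map c)))) :=
    haveI := h4
    (NatIso.isIso_map_iff (restrictPushIso f V) _).2
      (inferInstanceAs (IsIso ((Scheme.Modules.pushforward (f ∣_ V)).map
        ((Scheme.Modules.restrictFunctor W.ι).map
          (((DCoh.tensorBi (X := X)).obj M).map ((Scheme.Modules.pullback f).map c))))))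
  have h := congrArg R.map (projMap_natural_right f M c)
  rw [R.map_comp, R.map_comp] at h
  exact @IsIso.of_isIso_fac_left _ _ _ _ _ _ _ _ h2 (IsIso.comp_isIso' h1 h5) h

theorem epi_restrict_projMap_of_affine [IsLocallyNoetherian Y] [IsAffineHom (f ∣_ V)] (hV : IsAffineOpen V) {E : Y.Modules}
    (hE : Coh.IsQCoh E) (hEf : CohB1.IsFT E) {M : X.Modules} (hM : Coh.IsQCoh M) :
    Epi ((Scheme.Modules.restrictFunctor V.ι).map (projMap f M E)) := by
  haveI : IsAffine (V : Scheme.{u}) := hV
  haveI := hE
  haveI := hM
  let R := Scheme.Modules.restrictFunctor V.ι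
  let adj := CxOX.extZeroAdj V.ι
  let W := f ⁻¹ᵁ V
  haveI hEq : Coh.IsQCoh (R.obj E) := inferInstance
  obtain ⟨n, p, hp⟩ := CMRegLib.exists_epi_free_qcoh (M := R.obj E) hEq
    (ProjBundleLib.isCoh_restrict_open hE hEf V).2 (AmpleLib.isGloballyGenerated_of_isQuasiAffine _)
  let F := FlatMod.freeMod (V : Scheme.{u}) n
  let c : (CxOX.extZero V.ι).obj F ⟶ E := (adj.homEquiv _ _).symm p
  haveI hu : IsIso (adj.unit.app F) := inferInstance
  have hc : adj.unit.app F ≫ R.map c = p :=
    (adj.homEquiv_unit ..).symm.trans ((adj.homEquiv _ _).apply_symm_apply p)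
  haveI hc' : Epi (R.map c) := by
    haveI : Epi (adj.unit.app F ≫ R.map c) := by rw [hc]; exact hp
    exact epi_of_epi (adj.unit.app F) (R.map c)
  have h1 : IsIso (R.map (projMap f M ((CxOX.extZero V.ι).obj F))) :=
    isIso_restrict_projTrans_free f V M n (Iso.refl F)
  let t := ((DCoh.tensorBi (X := X)).obj M).map ((Scheme.Modules.pullback f).map c)
  have h5 : Epi (R.map ((Scheme.Modules.pushforward f).map t)) := by
    haveI : Epi ((Scheme.Modules.restrictFunctor W.ι).map ((Scheme.Modules.pullback f).map c)) :=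
      ((MorphismProperty.epimorphisms _).arrow_mk_iso_iff
        (Arrow.isoMk ((pullResIso f V).app _) ((pullResIso f V).app _)
          ((pullResIso f V).hom.naturality c).symm)).2
        (inferInstanceAs (Epi ((Scheme.Modules.pullback (f ∣_ V)).map (R.map c))))
    let t' := ((DCoh.tensorBi (X := (W : Scheme.{u}))).obj ((Scheme.Modules.restrictFunctor W.ι).obj M)).map
      ((Scheme.Modules.restrictFunctor W.ι).map ((Scheme.Modules.pullback f).map c))
    haveI : Epi t' := DCohMore.epi_tmod_right _ _
    let α : Arrow.mk ((Scheme.Modules.restrictFunctor W.ι).map t) ≅ Arrow.mk t' :=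
      Arrow.isoMk ((restrictTensorBiIso W.ι M).app _) ((restrictTensorBiIso W.ι M).app _)
        ((restrictTensorBiIso W.ι M).hom.naturality _).symm
    haveI hepi : Epi ((Scheme.Modules.restrictFunctor W.ι).map t) :=
      ((MorphismProperty.epimorphisms _).arrow_mk_iso_iff α).2 (inferInstanceAs (Epi t'))
    have hQ : ∀ N : Y.Modules, Coh.IsQCoh (R.obj N) →
        Coh.IsQCoh ((Scheme.Modules.restrictFunctor W.ι).obj (DCohLib.tmod M ((Scheme.Modules.pullback f).obj N))) :=
      fun N hN => by
        haveI := hN
        exact DCohLib.isQCoh_of_iso' ((restrictTensorBiIso W.ι M).app _ ≪≫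
          ((DCoh.tensorBi (X := (W : Scheme.{u}))).obj _).mapIso ((pullResIso f V).app N)).symm
            (@BCLib.isQCoh_tmod _ _ _ inferInstance (PullbackMod.isQCoh_pullback (f ∣_ V) (R.obj N)))
    haveI hF : Coh.IsQCoh (R.obj ((CxOX.extZero V.ι).obj F)) :=
      DCohLib.isQCoh_of_iso' (asIso (adj.unit.app F))
        (PullbackMod.isQCoh_and_isFP_of_isFinLocFree _ (DCohLib.isFinLocFree_freeMod n)).1
    haveI := DCohMore.epi_push_of_qcoh (f ∣_ V) (hQ _ hF) (hQ _ hEq) ((Scheme.Modules.restrictFunctor W.ι).map t)
    exact ((MorphismProperty.epimorphisms _).arrow_mk_iso_iff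
      (Arrow.isoMk ((restrictPushIso f V).app _) ((restrictPushIso f V).app _)
        ((restrictPushIso f V).hom.naturality t).symm)).2
      (inferInstanceAs (Epi ((Scheme.Modules.pushforward (f ∣_ V)).map ((Scheme.Modules.restrictFunctor W.ι).map t))))
  have h := congrArg R.map (projMap_natural_right f M c)
  rw [R.map_comp, R.map_comp] at h
  haveI := h1
  haveI := h5
  haveI : Epi (R.map (((DCoh.tensorBi (X := Y)).obj ((Scheme.Modules.pushforward f).obj M)).map c) ≫
      R.map (projMap f M E)) := by rw [h]; exact epi_comp _ _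
  exact epi_of_epi (R.map (((DCoh.tensorBi (X := Y)).obj ((Scheme.Modules.pushforward f).obj M)).map c)) _

end Groth.Agent.AmpleFamLib
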