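import Groth.Agent.AmpleFamLib.TopVan
import Groth.Agent.AmpleFamLib.ProjEpi
import Groth.Agent.AmpleEmb.RelVanish
import Groth.Agent.SpDegen.Top
import Groth.Agent.HilbObsLib.Ideal
import Groth.Agent.ClSubLib.Annihilator
import Groth.Agent.RefOne.Divisor
import Groth.Agent.PullbackMod.Hom
import Groth.Agent.PullbackMod.Stalk
import Groth.Agent.DCohLib.StalkTensor

/-!
Vanishing of twisted direct images and ideals killing a coherent module.
-/

set_option autoImplicit false
set_option backward.isDefEq.respectTransparency false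
set_option linter.style.haveILetI false

universe u

open CategoryTheory CategoryTheory.Limits AlgebraicGeometry TopologicalSpace Opposite
open Groth.Agent.PullbackMod Groth.Agent.DCohLib

noncomputable section

namespace Groth.Agent.AmpleFamLib

variable {X : Scheme.{u}}

/-- A morphism is bijective on a stalk inside an open where it is an isomorphism. -/
theorem bijective_stalk_of_isIso_restrict {M N : X.Modules} (φ : M ⟶ N) (U : X.Opens)
    (h : IsIso ((Scheme.Modules.restrictFunctor U.ι).map φ)) {y : X} (hy : y ∈ U) :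
    Function.Bijective (stalkLin φ y) := by
  have h2 : IsIso ((Scheme.Modules.restrictFunctor U.ι ⋙ Scheme.Modules.toPresheaf _ ⋙
      TopCat.Presheaf.stalkFunctor AddCommGrpCat.{u} (⟨y, hy⟩ : U)).map φ) :=
    @Functor.map_isIso _ _ _ _ _ _ (Scheme.Modules.toPresheaf (U : Scheme.{u}) ⋙
      TopCat.Presheaf.stalkFunctor (X := (U : Scheme.{u}).toTopCat) AddCommGrpCat.{u} (⟨y, hy⟩ : U))
      ((Scheme.Modules.restrictFunctor U.ι).map φ) h
  exact @ConcreteCategory.bijective_of_isIso _ _ _ _ _ _ _ _
    ((Scheme.Modules.toPresheaf _ ⋙ TopCat.Presheaf.stalkFunctor AddCommGrpCat.{u} y).map φ)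
    ((NatIso.isIso_map_iff (Scheme.Modules.restrictStalkNatIso U.ι (⟨y, hy⟩ : U)) _).1 h2)

/-- A morphism bijective on the stalks of an open is an isomorphism there. -/
theorem isIso_restrict_of_bijective {M N : X.Modules} (φ : M ⟶ N) (U : X.Opens)
    (h : ∀ y ∈ U, Function.Bijective (stalkLin φ y)) : IsIso ((Scheme.Modules.restrictFunctor U.ι).map φ) := by
  refine (isIso_iff_stalk _).2 fun u => ?_
  haveI : IsIso ((Scheme.Modules.toPresheaf _ ⋙ TopCat.Presheaf.stalkFunctor AddCommGrpCat.{u} (U.ι u)).map φ) :=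
    (ConcreteCategory.isIso_iff_bijective _).2 (h _ u.2)
  haveI := (NatIso.isIso_map_iff (Scheme.Modules.restrictStalkNatIso U.ι u) φ).2 ‹_›
  exact ConcreteCategory.bijective_of_isIso
    ((Scheme.Modules.restrictFunctor U.ι ⋙ Scheme.Modules.toPresheaf _ ⋙
      TopCat.Presheaf.stalkFunctor AddCommGrpCat.{u} u).map φ)

variable (k : Type u) [Field k] [X.Over (Spec (CommRingCat.of k))] [IsProper (X ↘ Spec (CommRingCat.of k))]

/-- Surjectivity on stalks is compatible with restriction. -/
theorem surjective_stalkLin_restrict {U : Scheme.{u}} (j : U ⟶ X) [IsOpenImmersion j] {A B : X.Modules}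
    (u : A ⟶ B) (z : U) :
    Function.Surjective (stalkLin ((Scheme.Modules.restrictFunctor j).map u) z) ↔
      Function.Surjective (stalkLin u (j z)) := by
  let eA := ((Scheme.Modules.restrictStalkNatIso j z).app A).addCommGroupIsoToAddEquiv
  let eB := ((Scheme.Modules.restrictStalkNatIso j z).app B).addCommGroupIsoToAddEquiv
  have hc : ∀ w, eB (stalkLin ((Scheme.Modules.restrictFunctor j).map u) z w) =
      stalkLin u (j z) (eA w) := fun w =>
    ConcreteCategory.congr_hom ((Scheme.Modules.restrictStalkNatIso j z).hom.naturality u) w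
  constructor
  · intro h w
    obtain ⟨v, hv⟩ := h (eB.symm w)
    exact ⟨eA v, by rw [← hc, hv, eB.apply_symm_apply]⟩
  · intro h w
    obtain ⟨v, hv⟩ := h (eB w)
    exact ⟨eA.symm v, eB.injective (by rw [hc, eA.apply_symm_apply, hv])⟩

theorem restrict_stalk_natural {U : X.Opens} {M N : X.Modules} (φ : M ⟶ N) (y : (U : Scheme.{u}))
    (z : ((Scheme.Modules.restrictFunctor U.ι).obj M).presheaf.stalk y) :
    (Scheme.Modules.restrictStalkNatIso U.ι y).hom.app N
        (stalkLin ((Scheme.Modules.restrictFunctor U.ι).map φ) y z) =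
      stalkLin φ (U.ι y) ((Scheme.Modules.restrictStalkNatIso U.ι y).hom.app M z) :=
  ConcreteCategory.congr_hom ((Scheme.Modules.restrictStalkNatIso U.ι y).hom.naturality φ) z

theorem support_kernel_subset_of_injective {A B : X.Modules} (α : A ⟶ B) (U : Set X)
    (h : ∀ y ∈ U, Function.Injective (stalkLin α y)) : CohB1.support (kernel α) ⊆ Uᶜ := fun y hy hyU => hy
  (subsingleton_of_forall_eq 0 fun z => (mono_iff_stalk (kernel.ι α)).1 inferInstance y
    ((h y hyU ((HilbObsLib.stalk_kernel_ι_comp α y z).trans (map_zero _).symm)).trans (map_zero _).symm))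

theorem support_cokernel_subset_of_surjective {A B : X.Modules} (α : A ⟶ B) (U : Set X)
    (h : ∀ y ∈ U, Function.Surjective (stalkLin α y)) : CohB1.support (cokernel α) ⊆ Uᶜ := fun y hy hyU => hy
  (subsingleton_of_forall_eq 0 fun z => by
    obtain ⟨w, rfl⟩ := (epi_iff_stalk (cokernel.π α)).1 inferInstance y z
    obtain ⟨v, rfl⟩ := h y hyU w
    rw [← LinearMap.comp_apply, ← stalkLin_comp, (eq_zero_iff_stalk _).1 (cokernel.condition α) y]
    rfl)

/-- Tensoring keeps bijectivity on a stalk. -/
theorem bijective_stalk_tensor_left {A B : X.Modules} (α : A ⟶ B) (T : X.Modules) {y : X}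
    (h : Function.Bijective (stalkLin α y)) :
    Function.Bijective (stalkLin (((DCoh.tensorBi (X := X)).map α).app T) y) := by
  have e : (stalkLin (((DCoh.tensorBi (X := X)).map α).app T) y : _ → _) ∘ stalkTensor y A T =
      stalkTensor y B T ∘ (TensorProduct.congr (LinearEquiv.ofBijective _ h) (LinearEquiv.refl _ (T.presheaf.stalk y))) :=
    funext fun z => (stalkTensor_natural_left y α z).trans rfl
  refine (Function.Bijective.of_comp_iff _ (stalkTensor y A T).bijective).1 ?_
  rw [e]
  exact (stalkTensor y B T).bijective.comp (LinearEquiv.bijective _)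

/-- Tensoring on the other side keeps bijectivity on a stalk. -/
theorem bijective_stalk_tensor_right {A B : X.Modules} (α : A ⟶ B) (T : X.Modules) {y : X}
    (h : Function.Bijective (stalkLin α y)) :
    Function.Bijective (stalkLin (((DCoh.tensorBi (X := X)).obj T).map α) y) := by
  have e : (stalkLin (((DCoh.tensorBi (X := X)).obj T).map α) y : _ → _) ∘ stalkTensor y T A =
      stalkTensor y T B ∘ (TensorProduct.congr (LinearEquiv.refl _ (T.presheaf.stalk y)) (LinearEquiv.ofBijective _ h)) :=
    funext fun z => (stalkTensor_natural_right y α z).trans rfl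
  refine (Function.Bijective.of_comp_iff _ (stalkTensor y T A).bijective).1 ?_
  rw [e]
  exact (stalkTensor y T B).bijective.comp (LinearEquiv.bijective _)

/-- The annihilator ideal kills the stalks. -/
theorem smul_eq_zero_of_mem_annIdeal (C : X.Modules) [Coh.IsQCoh C] (hC : CohB1.IsFT C) (x : X)
    (r : X.presheaf.stalk x) (hr : r ∈ IntMult.stalkIdeal (ClSubLib.annIdeal C hC) x) (c : C.presheaf.stalk x) :
    r • c = 0 := by
  obtain ⟨U, hxU, s, rfl⟩ := TopCat.Presheaf.exists_germ_eq C.presheaf c
  obtain ⟨W, hW, hxW, hWU⟩ := exists_isAffineOpen_mem_and_subset (x := x) (U := U) hxU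
  rw [IdealStalkLib.stalkIdeal_eq (ClSubLib.annIdeal C hC) ⟨W, hW⟩ x hxW] at hr
  induction hr using Submodule.span_induction with
  | mem a ha =>
    obtain ⟨a, ha, rfl⟩ := ha
    rw [← TopCat.Presheaf.germ_res_apply C.presheaf (homOfLE hWU) x hxW s]
    refine (Mero.germ_smul C W x hxW a _).symm.trans ?_
    rw [Module.mem_annihilator.1 ha _, map_zero]
  | zero => rw [zero_smul]
  | add a b _ _ ha hb => rw [add_smul, ha, hb, add_zero]
  | smul r a _ ha => rw [smul_eq_mul, mul_smul, ha, smul_zero]

/-- The inclusion of the annihilator ideal becomes zero after tensoring with the module. -/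
theorem tensor_annIdeal_eq_zero (C : X.Modules) [Coh.IsQCoh C] (hC : CohB1.IsFT C) :
    ((DCoh.tensorBi (X := X)).obj C).map (ClSub.idealModι (ClSubLib.annIdeal C hC)) = 0 := by
  let i := ClSub.idealModι (ClSubLib.annIdeal C hC)
  have hlt : ∀ x : X, (stalkLin i x).lTensor (C.presheaf.stalk x) = 0 := fun x => by
    refine TensorProduct.ext' fun c a => ?_
    obtain ⟨r, hr⟩ := (ParaFLib.bijective_oneG x).2 (stalkLin i x a)
    rw [LinearMap.lTensor_tmul, ← hr, LinearMap.zero_apply, ← TensorProduct.smul_tmul,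
      smul_eq_zero_of_mem_annIdeal C hC x r ((HilbObsLib.mem_range_idealModι _ x r).1 ⟨a, hr.symm⟩) c,
      TensorProduct.zero_tmul]
  refine Scheme.Modules.hom_ext _ _ fun U => ?_
  ext s
  refine TopCat.Presheaf.section_ext (⟨(tmod C (Coh.structureModule X)).presheaf,
    (tmod C (Coh.structureModule X)).isSheaf⟩ : TopCat.Sheaf Ab X) U _ _ fun x hx => ?_
  obtain ⟨z, hz⟩ := (stalkTensor x C (ClSub.idealMod (ClSubLib.annIdeal C hC))).surjective
    ((tmod C (ClSub.idealMod (ClSubLib.annIdeal C hC))).presheaf.germ U x hx s)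
  refine ((stalkLin_germ (((DCoh.tensorBi (X := X)).obj C).map i) x hx s).symm.trans ?_).trans
    (map_zero ((tmod C (Coh.structureModule X)).presheaf.germ U x hx).hom).symm
  refine (congrArg _ hz.symm).trans ((stalkTensor_natural_right x i z).trans ?_)
  rw [hlt x, LinearMap.zero_apply, map_zero]

/-- Serre vanishing for twisted direct images. -/
theorem subsingleton_HH_push_twist {Y : Scheme.{u}} [IsNoetherian X] (f : Y ⟶ X) [IsProper f] [CompactSpace Y]
    {A : Type u} [CommRing A] [IsNoetherianRing A] (pY : Y ⟶ Spec (CommRingCat.of A)) [IsProper pY]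
    {L : Y.Modules} (hL : CohB1.IsAmple L) {M : Y.Modules} (hM : Coh.IsCoh M) :
    ∃ n₀ : ℕ, ∀ n : ℕ, n₀ ≤ n → ∀ p : ℕ, 0 < p →
      Subsingleton (Coh.HH X ((Scheme.Modules.pushforward f).obj (CohB1.tensorMod M (CohB1.tensorPow L n))) p) := by
  haveI : IsLocallyNoetherian Y := LocallyOfFiniteType.isLocallyNoetherian f
  obtain ⟨a, ha⟩ := AmpleEmb.serre_vanishing pY hL hM
  obtain ⟨b, hb⟩ := AmpleEmb.exists_isZero_rpushAb_tensorPow f hL.1
    (fun W hW => by
      haveI : CompactSpace (f ⁻¹ᵁ W : Y.Opens) :=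
        isCompact_iff_compactSpace.1 (f.isCompact_preimage hW.isCompact)
      exact AmpleLib.isAmple_restrict _ hL) hM
  refine ⟨max a b, fun n hn p hp => ?_⟩
  obtain ⟨e⟩ := SpDegen.nonempty_leray_acyclic_push f.base
    (Coh.toAb (CohB1.tensorMod M (CohB1.tensorPow L n)))
    (fun q => hb n (le_of_max_le_right hn) (q + 1) q.succ_pos) p
  exact @Equiv.subsingleton _ _ e.symm.toEquiv (ha n (le_of_max_le_left hn) p hp)

end Groth.Agent.AmpleFamLib
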