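import Groth.Agent.ChowLib.SchDense
import Groth.Agent.ProjMap.Basic
import Groth.Agent.CompleteCurve.ProjSpace
import Groth.Agent.AmpleEmb.TwistOne
import Groth.Agent.AmpleLib.Rel

/-!
Functions on a scheme-theoretically dense affine part of a scheme over projective space.
-/

set_option autoImplicit false
set_option linter.style.haveILetI false

universe u

open CategoryTheory CategoryTheory.Limits AlgebraicGeometry TopologicalSpace Opposite
open HomogeneousLocalization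
open Groth.Agent.ChowLib

noncomputable section

namespace Groth.Agent.AmpleFamLib

variable {X Y : Scheme.{u}}

theorem fromSpec_appLE_top {V W : X.Opens} (hV : IsAffineOpen V) (h : V ≤ W) (e : ⊤ ≤ hV.fromSpec ⁻¹ᵁ W) :
    hV.fromSpec.appLE W ⊤ e ≫ (Scheme.ΓSpecIso Γ(X, V)).hom = X.presheaf.map (homOfLE h).op := by
  rw [Scheme.Hom.appLE, IsAffineOpen.fromSpec_app_of_le hV W h, Category.assoc, Category.assoc, Category.assoc,
    ← Functor.map_comp_assoc,
    Subsingleton.elim ((homOfLE (le_top : hV.fromSpec ⁻¹ᵁ W ≤ ⊤)).op ≫ (homOfLE e).op) (𝟙 _)]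
  simp

/-- A morphism to an affine scheme from its global functions. -/
theorem specMap_appTop {R : CommRingCat.{u}} {S : CommRingCat.{u}} (f : Spec R ⟶ Spec S) :
    Spec.map ((Scheme.ΓSpecIso S).inv ≫ f.appTop ≫ (Scheme.ΓSpecIso R).hom) = f := by
  obtain ⟨g, rfl⟩ := Spec.map_surjective f
  rw [← Category.assoc, ← Scheme.ΓSpecIso_inv_naturality, Category.assoc, Iso.inv_hom_id, Category.comp_id]

/-- Functions pulled back along a morphism restricting to the inclusion of an affine open. -/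
theorem appTop_appLE {V W : X.Opens} (hV : IsAffineOpen V) (τ : Spec Γ(X, V) ⟶ Y) (g : Y ⟶ X)
    (hτ : τ ≫ g = hV.fromSpec) (e : ⊤ ≤ g ⁻¹ᵁ W) (h : V ≤ W) :
    g.appLE W ⊤ e ≫ τ.appTop ≫ (Scheme.ΓSpecIso Γ(X, V)).hom = X.presheaf.map (homOfLE h).op := by
  have h1 : g.appLE W ⊤ e ≫ τ.appTop = hV.fromSpec.appLE W ⊤
      (fun z _ => h (hV.opensRange_fromSpec.le ⟨z, rfl⟩)) := by
    simp only [← hτ, ← Scheme.Hom.appLE_comp_appLE τ g W ⊤ ⊤ e le_top, Scheme.Hom.appTop]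
    rw [Scheme.Hom.app_eq_appLE]
    rfl
  rw [← Category.assoc, h1, fromSpec_appLE_top hV h]

theorem injective_appTop {R : CommRingCat.{u}} (τ : Spec R ⟶ Y) (hτ : AppInj τ) :
    Function.Injective (τ.appTop ≫ (Scheme.ΓSpecIso R).hom) :=
  (ConcreteCategory.bijective_of_isIso (Scheme.ΓSpecIso R).hom).1.comp (hτ ⊤)

theorem appInj_lift {T : Scheme.{u}} {σ : T ⟶ Y} (hσ : AppInj σ) (G : Y.Opens) {S : Scheme.{u}}
    (j : S ⟶ T) [IsOpenImmersion j] (hj : j.opensRange = σ ⁻¹ᵁ G) (σ' : S ⟶ (G : Scheme.{u}))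
    (h : σ' ≫ G.ι = j ≫ σ) : AppInj σ' := by
  let e := IsOpenImmersion.isoOfRangeEq j (σ ⁻¹ᵁ G).ι (by
    rw [Scheme.Opens.range_ι]
    exact congrArg SetLike.coe hj)
  have he : σ' = e.hom ≫ (σ ∣_ G) := by
    rw [← cancel_mono G.ι, h, Category.assoc, morphismRestrict_ι, IsOpenImmersion.isoOfRangeEq_hom_fac_assoc]
  intro O s t hst
  simp only [Scheme.Hom.congr_app he, Scheme.Hom.comp_app, CommRingCat.comp_apply] at hst
  have h2 := (ConcreteCategory.bijective_of_isIso (S.presheaf.map (eqToHom (congrArg (· ⁻¹ᵁ O) he)).op)).1 hst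
  have h3 := (ConcreteCategory.bijective_of_isIso (e.hom.app ((σ ∣_ G) ⁻¹ᵁ O))).1 h2
  simp only [morphismRestrict_app] at h3
  refine hσ (G.ι ''ᵁ O) ?_
  exact (ConcreteCategory.bijective_of_isIso
    (T.presheaf.map (eqToHom (image_morphismRestrict_preimage σ G O)).op)).1 h3

/-- The part of a scheme-theoretically dense affine open inside an open. -/
theorem exists_lift_open {U : X.Opens} (hU : IsAffineOpen U) {σ : Spec Γ(X, U) ⟶ Y} (hσ : AppInj σ)
    (G : Y.Opens) {V : X.Opens} (hV : IsAffineOpen V) (hVU : V ≤ U)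
    (hG : hU.fromSpec ⁻¹ᵁ V = σ ⁻¹ᵁ G) :
    ∃ τ : Spec Γ(X, V) ⟶ (G : Scheme.{u}), τ ≫ G.ι = Spec.map (X.presheaf.map (homOfLE hVU).op) ≫ σ ∧ AppInj τ := by
  let j := Spec.map (X.presheaf.map (homOfLE hVU).op)
  have hj : j ≫ hU.fromSpec = hV.fromSpec := hU.map_fromSpec hV _
  haveI : IsOpenImmersion j := by
    haveI : IsOpenImmersion (j ≫ hU.fromSpec) := by rw [hj]; infer_instance
    exact IsOpenImmersion.of_comp j hU.fromSpec
  have hr : j.opensRange = σ ⁻¹ᵁ G := by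
    rw [← hG, ← Scheme.Hom.preimage_image_eq hU.fromSpec j.opensRange, ← Scheme.Hom.opensRange_comp]
    simp only [hj, IsAffineOpen.opensRange_fromSpec]
  have hfac : Set.range (j ≫ σ) ⊆ Set.range G.ι := by
    rintro _ ⟨z, rfl⟩
    rw [Scheme.Opens.range_ι]
    exact hr.le ⟨z, rfl⟩
  exact ⟨IsOpenImmersion.lift G.ι (j ≫ σ) hfac, IsOpenImmersion.lift_fac _ _ _,
    appInj_lift hσ G j hr _ (IsOpenImmersion.lift_fac _ _ _)⟩

variable {A : Type u} [CommRing A] {N : ℕ}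

local notation "Xv" => (MvPolynomial.X : Fin (N + 1) → MvPolynomial (Fin (N + 1)) A)

/-- The coordinate ratios on an open lying over a standard chart. -/
theorem exists_ratios (q : Y ⟶ CohB1.ProjSpace N A) (cc : Fin (N + 1)) (G : Y.Opens)
    (hG : G ≤ q ⁻¹ᵁ AmpleEmb.stdOpen N A cc) :
    ∃ rr : Fin (N + 1) → Γ((G : Scheme.{u}), ⊤),
      (∀ i, G.ι ⁻¹ᵁ (q ⁻¹ᵁ AmpleEmb.stdOpen N A i) = (G : Scheme.{u}).basicOpen (rr i)) ∧
      ∀ (R : CommRingCat.{u}) [Algebra A R] (τ : Spec R ⟶ (G : Scheme.{u})) (vR : Fin (N + 1) → R)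
        (hu : IsUnit (vR cc)), τ ≫ G.ι ≫ q = ProjMap.point vR cc hu →
          ∀ i, (τ.appTop ≫ (Scheme.ΓSpecIso R).hom) (rr i) * vR cc = vR i := by
  let el : Fin (N + 1) → Away (CohB1.polyGrading N A) (Xv cc) :=
    fun i => Away.mk _ (ProjMap.X_mem cc) 1 (Xv i) (by simpa using ProjMap.X_mem (R := A) i)
  have hrange : (ProjMap.chart (R := A) cc).opensRange = AmpleEmb.stdOpen N A cc :=
    Proj.opensRange_awayι _ _ (ProjMap.X_mem cc) one_pos
  have hfac : Set.range (G.ι ≫ q) ⊆ Set.range (ProjMap.chart (R := A) cc) := by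
    rintro _ ⟨z, rfl⟩
    exact hrange.ge (hG z.2)
  let γ := IsOpenImmersion.lift (ProjMap.chart (R := A) cc) (G.ι ≫ q) hfac
  have hγ : γ ≫ ProjMap.chart cc = G.ι ≫ q := IsOpenImmersion.lift_fac _ _ _
  let φG : CommRingCat.of (Away (CohB1.polyGrading N A) (Xv cc)) ⟶ Γ((G : Scheme.{u}), ⊤) :=
    (Scheme.ΓSpecIso _).inv ≫ γ.appTop
  refine ⟨fun i => φG (el i), fun i => ?_, fun R _ τ vR hu hτ i => ?_⟩
  · have e1 : G.ι ⁻¹ᵁ (q ⁻¹ᵁ AmpleEmb.stdOpen N A i) = γ ⁻¹ᵁ (ProjMap.chart cc ⁻¹ᵁ AmpleEmb.stdOpen N A i) := by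
      rw [← Scheme.Hom.comp_preimage, ← Scheme.Hom.comp_preimage, hγ]
    have e2 : ProjMap.chart cc ⁻¹ᵁ AmpleEmb.stdOpen N A i = PrimeSpectrum.basicOpen (el i) := by
      refine (Proj.awayι_preimage_basicOpen (CohB1.polyGrading N A) (ProjMap.X_mem (R := A) cc) one_pos
        (ProjMap.X_mem (R := A) i) one_pos).trans ?_
      congr 1
      refine HomogeneousLocalization.val_injective _ ?_
      simp only [Away.isLocalizationElem, el, Away.val_mk, pow_one]
    rw [e1, e2]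
    refine (congrArg (γ ⁻¹ᵁ ·) (basicOpen_eq_of_affine (R := CommRingCat.of (Away (CohB1.polyGrading N A) (Xv cc))) (el i)).symm).trans ?_
    exact Scheme.preimage_basicOpen γ _
  · let E : CommRingCat.of (Away (CohB1.polyGrading N A) (Xv cc)) ⟶ R :=
      φG ≫ τ.appTop ≫ (Scheme.ΓSpecIso R).hom
    have h1 : Spec.map E = τ ≫ γ := by
      rw [← specMap_appTop (τ ≫ γ), Scheme.Hom.comp_appTop]
      simp only [E, φG, Category.assoc]
    have h2 : E = CommRingCat.ofHom (ProjMap.evalAway vR (Xv cc) (by simpa using hu)) := by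
      apply Spec.map_injective
      rw [← cancel_mono (ProjMap.chart (R := A) cc), h1, Category.assoc, hγ, hτ]
      rfl
    have h3 := ProjMap.evalAway_mk (v := vR) (ProjMap.X_mem (R := A) cc) (by simpa using hu) 1
      (Xv i) (by simpa using ProjMap.X_mem (R := A) i)
    simp only [MvPolynomial.aeval_X, pow_one] at h3
    show E (el i) * vR cc = vR i
    rw [h2]
    exact h3

/-- An open of a closed subscheme of `X ×_A P^N` over a chart, containing a dense affine part with the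
generators of `Γ(X, W)` among its functions, is affine. -/
theorem isAffineOpen_of_mem_range {p : X ⟶ Spec (CommRingCat.of A)} [X.IsSeparated]
    (ι : Y ⟶ pullback p (CohB1.ProjSpace.toSpec N A)) [IsAffineHom ι]
    {W V : X.Opens} (hW : IsAffineOpen W) (hV : IsAffineOpen V) (hVW : V ≤ W) (cc : Fin (N + 1))
    (G : Y.Opens) (hG : G = (ι ≫ pullback.snd _ _) ⁻¹ᵁ AmpleEmb.stdOpen N A cc)
    (τ : Spec Γ(X, V) ⟶ (G : Scheme.{u})) (hτ : AppInj τ) (hτπ : τ ≫ G.ι ≫ ι ≫ pullback.fst _ _ = hV.fromSpec)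
    {gen : Set Γ(X, W)} (hgen : Subring.closure gen = ⊤)
    (hmem : ∀ b ∈ gen, ∃ z, (τ.appTop ≫ (Scheme.ΓSpecIso Γ(X, V)).hom) z = X.presheaf.map (homOfLE hVW).op b) :
    IsAffineOpen G := by
  let ρ := τ.appTop ≫ (Scheme.ΓSpecIso Γ(X, V)).hom
  let resW := X.presheaf.map (homOfLE hVW).op
  have hm : ∀ b, resW b ∈ ρ.hom.range := fun b => by
    have h : Subring.closure gen ≤ ρ.hom.range.comap resW.hom := Subring.closure_le.2 fun x hx => hmem x hx
    exact h (hgen.ge trivial)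
  let ε := RingEquiv.ofBijective ρ.hom.rangeRestrict
    ⟨fun x y h => injective_appTop τ hτ (congrArg Subtype.val h), ρ.hom.rangeRestrict_surjective⟩
  let ψ : Γ(X, W) ⟶ Γ((G : Scheme.{u}), ⊤) :=
    CommRingCat.ofHom (ε.symm.toRingHom.comp (resW.hom.codRestrict ρ.hom.range hm))
  have hψ : ψ ≫ ρ = resW := by
    ext b
    exact congrArg Subtype.val (ε.apply_symm_apply ⟨resW b, hm b⟩)
  let π := ι ≫ pullback.fst p (CohB1.ProjSpace.toSpec N A)
  let μ : (G : Scheme.{u}) ⟶ X := (G : Scheme.{u}).toSpecΓ ≫ Spec.map ψ ≫ hW.fromSpec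
  have hμ : μ = G.ι ≫ π := by
    refine hτ.eq_of_comp_eq (terminal.from X) (terminal.hom_ext _ _) ?_
    rw [hτπ, ← Category.assoc, Scheme.toSpecΓ_naturality, Category.assoc,
      show (Spec Γ(X, V)).toSpecΓ = Spec.map (Scheme.ΓSpecIso Γ(X, V)).hom by simp,
      ← Spec.map_comp_assoc, ← Spec.map_comp_assoc]
    show Spec.map (ψ ≫ ρ) ≫ _ = _
    rw [hψ]
    exact hW.map_fromSpec hV _
  have hGW : G ≤ π ⁻¹ᵁ W := fun z hz => by
    show (G.ι ≫ π) ⟨z, hz⟩ ∈ W
    rw [← hμ]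
    exact hW.opensRange_fromSpec.le ⟨_, rfl⟩
  haveI : IsAffine (W : Scheme.{u}) := hW
  haveI : IsAffine (AmpleEmb.stdOpen N A cc : Scheme.{u}) := AmpleEmb.isAffineOpen_stdOpen N A cc
  let m := pullback.map (W.ι ≫ p) ((AmpleEmb.stdOpen N A cc).ι ≫ CohB1.ProjSpace.toSpec N A) p
    (CohB1.ProjSpace.toSpec N A) W.ι (AmpleEmb.stdOpen N A cc).ι (𝟙 _) (by simp) (by simp)
  convert (isAffineOpen_opensRange m).preimage ι using 1
  refine Opens.ext (Set.ext fun z => ?_)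
  show z ∈ G ↔ ι z ∈ Set.range m
  rw [Scheme.Pullback.range_map, Scheme.Opens.range_ι, Scheme.Opens.range_ι]
  exact ⟨fun hz => ⟨hGW hz, hG.le hz⟩, fun hz => hG.ge hz.2⟩

/-- A closed subscheme of `X ×_A P^N` containing a dense affine open of `X` scheme-theoretically. -/
theorem isIso_restrict_of_graph {p : X ⟶ Spec (CommRingCat.of A)} {U : X.Opens} (hU : IsAffineOpen U)
    (ι : Y ⟶ pullback p (CohB1.ProjSpace.toSpec N A)) [Mono ι] (σ : Spec Γ(X, U) ⟶ Y) (hσ : AppInj σ)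
    (pt : Spec Γ(X, U) ⟶ CohB1.ProjSpace N A) (hpt : pt ≫ CohB1.ProjSpace.toSpec N A = hU.fromSpec ≫ p)
    (hσπ : σ ≫ ι ≫ pullback.fst _ _ = hU.fromSpec) (hσq : σ ≫ ι ≫ pullback.snd _ _ = pt) :
    IsIso ((ι ≫ pullback.fst _ _) ∣_ U) := by
  let π := ι ≫ pullback.fst p (CohB1.ProjSpace.toSpec N A)
  let s : (π ⁻¹ᵁ U : Scheme.{u}) ⟶ Spec Γ(X, U) := (π ∣_ U) ≫ hU.isoSpec.hom
  have hs : s ≫ hU.fromSpec = (π ⁻¹ᵁ U).ι ≫ π := by
    simp only [s, IsAffineOpen.fromSpec, Category.assoc, Iso.hom_inv_id_assoc, morphismRestrict_ι]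
  have hfac : Set.range σ ⊆ Set.range (π ⁻¹ᵁ U).ι := by
    rintro _ ⟨z, rfl⟩
    rw [Scheme.Opens.range_ι]
    show π (σ z) ∈ U
    rw [← Scheme.Hom.comp_apply, hσπ]
    exact hU.opensRange_fromSpec.le ⟨z, rfl⟩
  let σ' := IsOpenImmersion.lift (π ⁻¹ᵁ U).ι σ hfac
  have hσ' : σ' ≫ (π ⁻¹ᵁ U).ι = σ := IsOpenImmersion.lift_fac _ _ _
  have hσ's : σ' ≫ s = 𝟙 _ := by
    rw [← cancel_mono hU.fromSpec, Category.assoc, hs, ← Category.assoc, hσ', hσπ, Category.id_comp]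
  have hinj : AppInj σ' := hσ.of_comp_openImmersion _ hσ'
  have hsσ : s ≫ σ' = 𝟙 _ := by
    rw [← cancel_mono (π ⁻¹ᵁ U).ι, Category.assoc, hσ', Category.id_comp, ← cancel_mono ι, Category.assoc]
    apply pullback.hom_ext
    · simp only [Category.assoc, hσπ]
      exact hs
    · simp only [Category.assoc, hσq]
      refine hinj.eq_of_comp_eq (CohB1.ProjSpace.toSpec N A) ?_ ?_
      · rw [Category.assoc, hpt, ← Category.assoc, hs]
        simp only [π, Category.assoc, pullback.condition]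
      · rw [← Category.assoc, hσ's, Category.id_comp, ← Category.assoc, hσ', hσq]
  haveI : IsIso s := ⟨σ', hsσ, hσ's⟩
  have : π ∣_ U = s ≫ hU.isoSpec.inv := by simp [s]
  rw [show (ι ≫ pullback.fst _ _) ∣_ U = π ∣_ U from rfl, this]
  infer_instance

/-- A scheme covered by affine preimages of standard charts has an ample invertible module. -/
theorem exists_isAmple_of_charts (q : Y ⟶ CohB1.ProjSpace N A) [CompactSpace Y] (Good : Fin (N + 1) → Prop)
    (hcover : ∀ y, ∃ cc, Good cc ∧ q y ∈ AmpleEmb.stdOpen N A cc)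
    (haff : ∀ cc, Good cc → IsAffineOpen (q ⁻¹ᵁ AmpleEmb.stdOpen N A cc)) :
    ∃ L : Y.Modules, CohB1.IsAmple L := by
  classical
  let P₀ : (CohB1.ProjSpace N A).Opens := ⨆ cc : {cc // Good cc}, AmpleEmb.stdOpen N A cc.1
  haveI : CompactSpace (P₀ : Scheme.{u}) := isCompact_iff_compactSpace.1 (by
    rw [Opens.coe_iSup]
    exact isCompact_iUnion fun cc => (AmpleEmb.isAffineOpen_stdOpen N A cc.1).isCompact)
  have hfac : Set.range q ⊆ Set.range P₀.ι := by
    rintro _ ⟨z, rfl⟩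
    rw [Scheme.Opens.range_ι]
    obtain ⟨cc, hcc, hz⟩ := hcover z
    exact Opens.mem_iSup.2 ⟨⟨cc, hcc⟩, hz⟩
  let q₀ := IsOpenImmersion.lift P₀.ι q hfac
  have hq₀ : q₀ ≫ P₀.ι = q := IsOpenImmersion.lift_fac _ _ _
  haveI : IsAffineHom q₀ := by
    refine (IsZariskiLocalAtTarget.iff_of_iSup_eq_top (P := @IsAffineHom)
      (fun cc : {cc // Good cc} => P₀.ι ⁻¹ᵁ AmpleEmb.stdOpen N A cc.1) ?_).2 fun cc => ?_
    · rw [← Scheme.Hom.preimage_iSup]
      exact P₀.ι_preimage_self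
    · haveI : IsAffine (P₀.ι ⁻¹ᵁ AmpleEmb.stdOpen N A cc.1 : Scheme.{u}) :=
        (AmpleEmb.isAffineOpen_stdOpen N A cc.1).preimage_of_isOpenImmersion P₀.ι (by
          rw [Scheme.Opens.opensRange_ι]
          exact le_iSup (fun cc : {cc // Good cc} => AmpleEmb.stdOpen N A cc.1) cc)
      haveI : IsAffine (q₀ ⁻¹ᵁ (P₀.ι ⁻¹ᵁ AmpleEmb.stdOpen N A cc.1) : Scheme.{u}) := by
        rw [← Scheme.Hom.comp_preimage, hq₀]
        exact haff cc.1 cc.2
      exact isAffineHom_of_isAffine _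
  exact ⟨_, AmpleLib.isAmple_pullback q₀
    (AmpleLib.isAmple_restrict P₀.ι (AmpleEmb.isAmple_twistOne (n := N) (R := A)))⟩

end Groth.Agent.AmpleFamLib
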