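import Groth.Agent.AmpleFamLib.ChowData
import Groth.Agent.AmpleFamLib.ChowAux

/-!
Chow's lemma with a prescribed affine open: a proper morphism, an isomorphism over a given affine open,
from a scheme with an ample invertible module.
-/

set_option autoImplicit false
set_option linter.style.haveILetI false

universe u

open CategoryTheory CategoryTheory.Limits AlgebraicGeometry TopologicalSpace Opposite
open Groth.Agent.ChowLib

noncomputable section

namespace Groth.Agent.AmpleFamLib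

variable {A : Type u} [CommRing A] {X : Scheme.{u}} (p : X ⟶ Spec (CommRingCat.of A))

/-- The structure map on functions. -/
def algOf (V : X.Opens) : CommRingCat.of A ⟶ Γ(X, V) :=
  (Scheme.ΓSpecIso (CommRingCat.of A)).inv ≫ p.appTop ≫ X.presheaf.map (homOfLE (le_top : V ≤ ⊤)).op

theorem specMap_algOf {V : X.Opens} (hV : IsAffineOpen V) : Spec.map (algOf p V) = hV.fromSpec ≫ p := by
  conv_rhs => rw [← specMap_appTop (hV.fromSpec ≫ p)]
  congr 1
  simp only [algOf, Scheme.Hom.comp_appTop, Category.assoc]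
  congr 2
  rw [← fromSpec_appLE_top hV le_top le_top]
  congr 1

theorem exists_generators [LocallyOfFiniteType p] {W : X.Opens} (hW : IsAffineOpen W) :
    ∃ (q : ℕ) (w : Fin q → Γ(X, W)), Subring.closure (Set.range (algOf p W) ∪ Set.range w) = ⊤ := by
  letI : Algebra A Γ(X, W) := (algOf p W).hom.toAlgebra
  haveI : Algebra.FiniteType A Γ(X, W) := by
    have : LocallyOfFiniteType (Spec.map (algOf p W)) := by
      rw [specMap_algOf p hW]
      infer_instance
    exact HasRingHomProperty.Spec_iff (P := @LocallyOfFiniteType).1 this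
  obtain ⟨q, g, hg⟩ := Algebra.FiniteType.iff_quotient_mvPolynomial''.1 ‹_›
  refine ⟨q, fun i => g (MvPolynomial.X i), eq_top_iff.2 fun b _ => ?_⟩
  obtain ⟨m, rfl⟩ := hg b
  induction m using MvPolynomial.induction_on with
  | C a =>
    rw [← MvPolynomial.algebraMap_eq, AlgHom.commutes]
    exact Subring.subset_closure (Or.inl ⟨a, rfl⟩)
  | add a b ha hb => rw [map_add]; exact add_mem (ha trivial) (hb trivial)
  | mul_X a i ha =>
    rw [map_mul]
    exact mul_mem (ha trivial) (Subring.subset_closure (Or.inr ⟨i, rfl⟩))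

theorem exists_isUnit_of_sum {Y : Scheme.{u}} {ι : Type*} [Fintype ι] (y : Y) (a r : ι → Γ(Y, ⊤))
    (h : ∑ i, a i * r i = 1) : ∃ i, y ∈ Y.basicOpen (r i) := by
  by_contra hn
  push Not at hn
  have hz := congrArg (Y.presheaf.germ ⊤ y trivial) h
  rw [map_sum, map_one] at hz
  refine (IsLocalRing.maximalIdeal (Y.presheaf.stalk y)).ne_top_iff_one.1
    (IsLocalRing.maximalIdeal.isMaximal _).ne_top (hz ▸ Ideal.sum_mem _ fun i _ => ?_)
  rw [map_mul]
  exact Ideal.mul_mem_left _ _ fun hu => hn i ((Y.mem_basicOpen (r i) y trivial).2 hu)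

theorem rres' {a b c : X.Opens} (h₁ : b ≤ a) (h₂ : c ≤ b) (r : Γ(X, a)) :
    X.presheaf.map (homOfLE h₂).op (X.presheaf.map (homOfLE h₁).op r) =
      X.presheaf.map (homOfLE (h₂.trans h₁)).op r :=
  AmpleLib.rres h₁ h₂ r

/-- An affine open is isomorphic to its preimage in a proper modification of `X` with an ample invertible module. -/
theorem exists_chow_open [IsSeparated p] [LocallyOfFiniteType p] [QuasiCompact p] {U : X.Opens}
    (hU : IsAffineOpen U) :
    ∃ (X' : Scheme.{u}) (π : X' ⟶ X) (L : X'.Modules), IsProper π ∧ IsIso (π ∣_ U) ∧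
      Dense ((π ⁻¹ᵁ U : X'.Opens) : Set X') ∧ CohB1.IsAmple L := by
  classical
  haveI : X.IsSeparated := ⟨by rw [← terminal.comp_from p]; infer_instance⟩
  haveI : CompactSpace X := QuasiCompact.compactSpace_of_compactSpace p
  let B := Γ(X, U)
  obtain ⟨r, W, hW, hcov⟩ : ∃ (r : ℕ) (W : Fin r → X.Opens), (∀ k, IsAffineOpen (W k)) ∧ ∀ x, ∃ k, x ∈ W k := by
    choose V hV hxV using fun x : X => exists_isAffineOpen_mem_and_subset (x := x) (U := (⊤ : X.Opens)) trivial
    obtain ⟨t, ht⟩ := isCompact_univ.elim_finite_subcover (fun z => (V z : Set X)) (fun z => (V z).2)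
      fun z _ => Set.mem_iUnion.2 ⟨z, (hxV z).1⟩
    refine ⟨t.card, fun k => V (t.equivFin.symm k).1, fun k => hV _, fun z => ?_⟩
    obtain ⟨a, ha, hza⟩ := Set.mem_iUnion₂.1 (ht (Set.mem_univ z))
    exact ⟨t.equivFin ⟨a, ha⟩, by simpa using hza⟩
  choose q w hw using fun k => exists_generators p (hW k)
  choose I hI h a c hD hc hsum using fun k => exists_chowData p (hW k) hU (w k)
  letI := hI
  -- homogeneous coordinates
  let F : Fin r → Type u := fun k => Option (I k ⊕ I k × Fin (q k))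
  let vF : ∀ k, F k → B := fun k => fun
    | none => 1
    | some (Sum.inl i) => h k i
    | some (Sum.inr ij) => c k ij.1 ij.2
  let N : ℕ := Fintype.card (∀ k, F k) - 1
  have hN : Fintype.card (∀ k, F k) = N + 1 :=
    (Nat.succ_pred_eq_of_pos (Fintype.card_pos_iff.2 ⟨fun k => none⟩)).symm
  let eι : (∀ k, F k) ≃ Fin (N + 1) := Fintype.equivFinOfCardEq hN
  let vt : (∀ k, F k) → B := fun t => ∏ k, vF k (t k)
  let v : Fin (N + 1) → B := fun i => vt (eι.symm i)
  let rest : (∀ k, F k) → Fin r → B := fun t k => ∏ k' ∈ Finset.univ.erase k, vF k' (t k')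
  have hvt : ∀ t k, vt t = vF k (t k) * rest t k := fun t k =>
    (Finset.mul_prod_erase _ _ (Finset.mem_univ k)).symm
  have hvu : ∀ t k x, v (eι (Function.update t k x)) = vF k x * rest t k := fun t k x => by
    show vt (eι.symm (eι _)) = _
    rw [Equiv.symm_apply_apply, hvt _ k, Function.update_self]
    refine congrArg _ (Finset.prod_congr rfl fun k' hk' => ?_)
    rw [Function.update_of_ne (Finset.ne_of_mem_erase hk')]
  letI : Algebra A B := (algOf p U).hom.toAlgebra
  let i₀ : Fin (N + 1) := eι fun k => none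
  have hv₀ : IsUnit (v i₀) := by
    simp only [v, vt, i₀, Equiv.symm_apply_apply]
    exact isUnit_of_dvd_one (Finset.prod_eq_one fun k _ => rfl).dvd
  let pt : Spec B ⟶ CohB1.ProjSpace N A := ProjMap.point v i₀ hv₀
  have hpt : pt ≫ CohB1.ProjSpace.toSpec N A = hU.fromSpec ≫ p := by
    rw [ProjMap.point_toSpec]
    exact specMap_algOf p hU
  -- the closure of the graph
  let α : Spec B ⟶ pullback p (CohB1.ProjSpace.toSpec N A) := pullback.lift hU.fromSpec pt hpt.symm
  haveI : QuasiCompact α := by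
    haveI : QuasiCompact (α ≫ pullback.fst _ _ ≫ p) := inferInstance
    exact QuasiCompact.of_comp α (pullback.fst _ _ ≫ p)
  let π : α.image ⟶ X := α.imageι ≫ pullback.fst _ _
  let qP : α.image ⟶ CohB1.ProjSpace N A := α.imageι ≫ pullback.snd _ _
  let σ : Spec B ⟶ α.image := α.toImage
  have hσ : AppInj σ := appInj_toImage α
  have hσπ : σ ≫ π = hU.fromSpec := by
    rw [← Category.assoc, Scheme.Hom.toImage_imageι, pullback.lift_fst]
  have hσq : σ ≫ qP = pt := by
    rw [← Category.assoc, Scheme.Hom.toImage_imageι, pullback.lift_snd]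
  let Dc : Fin (N + 1) → α.image.Opens := fun i => qP ⁻¹ᵁ AmpleEmb.stdOpen N A i
  have hσD : ∀ i, σ ⁻¹ᵁ Dc i = hU.fromSpec ⁻¹ᵁ X.basicOpen (v i) := fun i => by
    show σ ⁻¹ᵁ (qP ⁻¹ᵁ _) = _
    rw [← Scheme.Hom.comp_preimage, hσq, hU.fromSpec_preimage_basicOpen]
    refine (ProjMap.point_preimage_basicOpen v i₀ hv₀ one_pos (ProjMap.X_mem i)).trans ?_
    rw [MvPolynomial.aeval_X]
  -- ratios on an open over a chart, evaluated on its dense affine part
  have hratio : ∀ (cc : Fin (N + 1)) (G : α.image.Opens), G ≤ Dc cc → ∀ (V : X.Opens) (hV : IsAffineOpen V)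
      (hVU : V ≤ U), hU.fromSpec ⁻¹ᵁ V = σ ⁻¹ᵁ G → V ≤ X.basicOpen (v cc) →
      ∃ (τ : Spec Γ(X, V) ⟶ (G : Scheme.{u})) (rr : Fin (N + 1) → Γ((G : Scheme.{u}), ⊤)),
        AppInj τ ∧ τ ≫ G.ι ≫ π = hV.fromSpec ∧
        (∀ i, G.ι ⁻¹ᵁ Dc i = (G : Scheme.{u}).basicOpen (rr i)) ∧
        IsUnit (X.presheaf.map (homOfLE hVU).op (v cc)) ∧
        ∀ i, (τ.appTop ≫ (Scheme.ΓSpecIso Γ(X, V)).hom) (rr i) * X.presheaf.map (homOfLE hVU).op (v cc) =
          X.presheaf.map (homOfLE hVU).op (v i) := by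
    intro cc G hG V hV hVU hGV hVc
    obtain ⟨τ, hτ, hτinj⟩ := exists_lift_open hU hσ G hV hVU hGV
    obtain ⟨rr, hr2, hr3⟩ := exists_ratios qP cc G hG
    have hu : IsUnit (X.presheaf.map (homOfLE hVU).op (v cc)) := by
      refine RingedSpace.isUnit_of_isUnit_germ X.toRingedSpace _ _ fun z hz => ?_
      rw [TopCat.Presheaf.germ_res_apply]
      exact (X.mem_basicOpen (v cc) z (hVU hz)).1 (hVc hz)
    refine ⟨τ, rr, hτinj, ?_, hr2, hu, ?_⟩
    · rw [← Category.assoc, hτ, Category.assoc, hσπ]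
      exact hU.map_fromSpec hV _
    · letI : Algebra A Γ(X, V) := (algOf p U ≫ X.presheaf.map (homOfLE hVU).op).hom.toAlgebra
      refine hr3 Γ(X, V) τ (fun i => X.presheaf.map (homOfLE hVU).op (v i)) hu ?_
      rw [← Category.assoc, hτ, Category.assoc, hσq]
      refine (ProjMap.specMap_point (X.presheaf.map (homOfLE hVU).op).hom (fun _ => rfl) v i₀ hv₀).trans ?_
      exact ProjMap.point_chart _ _ _ _ hu
  let Good : Fin (N + 1) → Prop := fun cc => ∃ k i, eι.symm cc k = some (Sum.inl i)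
  have haff : ∀ cc, Good cc → IsAffineOpen (Dc cc) := by
    rintro cc ⟨k, i, hk⟩
    let t := eι.symm cc
    have hvcc : v cc = h k i * rest t k :=
      (hvt t k).trans (by rw [show t k = some (Sum.inl i) from hk])
    have hV : IsAffineOpen (X.basicOpen (v cc)) := hU.basicOpen _
    have hVU : X.basicOpen (v cc) ≤ U := X.basicOpen_le _
    have hVW : X.basicOpen (v cc) ≤ W k := by
      rw [hvcc, Scheme.basicOpen_mul]
      exact inf_le_left.trans (hD k i)
    obtain ⟨τ, rr, hτ, hτπ, -, hu, hr⟩ := hratio cc (Dc cc) le_rfl _ hV hVU (hσD cc).symm le_rfl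
    refine isAffineOpen_of_mem_range α.imageι (hW k) hV hVW cc (Dc cc) rfl τ hτ hτπ (hw k) ?_
    rintro b (⟨a, rfl⟩ | ⟨j, rfl⟩)
    · refine ⟨((Dc cc).ι ≫ π).appLE ⊤ ⊤ le_top (p.appTop ((Scheme.ΓSpecIso (CommRingCat.of A)).inv a)), ?_⟩
      refine (ConcreteCategory.congr_hom (appTop_appLE hV τ ((Dc cc).ι ≫ π) hτπ le_top le_top) _).trans ?_
      exact (rres' le_top hVW (p.appTop ((Scheme.ΓSpecIso (CommRingCat.of A)).inv a))).symm
    · refine ⟨rr (eι (Function.update t k (some (Sum.inr (i, j))))), hu.mul_left_inj.1 ?_⟩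
      rw [hr, hvu, map_mul, show X.presheaf.map (homOfLE hVU).op (v cc) =
        X.presheaf.map (homOfLE hVU).op (h k i) * X.presheaf.map (homOfLE hVU).op (rest t k) from
          (congrArg (X.presheaf.map (homOfLE hVU).op) hvcc).trans (map_mul _ _ _), ← mul_assoc]
      refine congrArg (· * _) ?_
      have h2 := congrArg (X.presheaf.map (homOfLE (le_inf hVW hVU)).op) (hc k i j)
      rw [map_mul, rres' inf_le_right, rres' inf_le_left, rres' inf_le_right] at h2
      exact h2
  have hcover : ∀ y : α.image, ∃ cc, Good cc ∧ qP y ∈ AmpleEmb.stdOpen N A cc := by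
    intro y
    obtain ⟨cc, hy⟩ := Opens.mem_iSup.1 ((AmpleEmb.iSup_stdOpen N A).ge (Opens.mem_top (qP y)))
    obtain ⟨k, hk⟩ := hcov (π y)
    let t := eι.symm cc
    let G : α.image.Opens := Dc cc ⊓ π ⁻¹ᵁ W k
    let rU := X.presheaf.map (homOfLE (inf_le_right : W k ⊓ U ≤ U)).op
    let V := X.basicOpen (rU (v cc))
    have hVI : V ≤ W k ⊓ U := X.basicOpen_le _
    have hVU : V ≤ U := hVI.trans inf_le_right
    have hVW : V ≤ W k := hVI.trans inf_le_left
    have hVc : V ≤ X.basicOpen (v cc) := by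
      show X.basicOpen (rU (v cc)) ≤ _
      rw [Scheme.basicOpen_res]
      exact inf_le_right
    have hV : IsAffineOpen V := ((hW k).inf hU).basicOpen _
    have hG : hU.fromSpec ⁻¹ᵁ V = σ ⁻¹ᵁ G := by
      show hU.fromSpec ⁻¹ᵁ X.basicOpen (rU (v cc)) = σ ⁻¹ᵁ Dc cc ⊓ σ ⁻¹ᵁ (π ⁻¹ᵁ W k)
      rw [hσD, ← Scheme.Hom.comp_preimage, hσπ, Scheme.basicOpen_res]
      refine Opens.ext (Set.ext fun z => ?_)
      exact ⟨fun hz => ⟨hz.2, hz.1.1⟩, fun hz => ⟨⟨hz.2, hU.opensRange_fromSpec.le ⟨z, rfl⟩⟩, hz.1⟩⟩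
    obtain ⟨τ, rr, hτ, hτπ, hr2, hu, hr⟩ := hratio cc G inf_le_left V hV hVU hG hVc
    have heW : ⊤ ≤ (G.ι ≫ π) ⁻¹ᵁ W k := fun z _ => z.2.2
    let P := (G.ι ≫ π).appLE (W k) ⊤ heW
    let ρ := τ.appTop ≫ (Scheme.ΓSpecIso Γ(X, V)).hom
    have hρP : ∀ b, ρ (P b) = X.presheaf.map (homOfLE hVW).op b := fun b =>
      ConcreteCategory.congr_hom (appTop_appLE hV τ (G.ι ≫ π) hτπ heW hVW) b
    let nb : I k → Fin (N + 1) := fun i => eι (Function.update t k (some (Sum.inl i)))
    let res := X.presheaf.map (homOfLE hVU).op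
    have hRn : ∀ i, ρ (rr (nb i)) * res (v cc) = res (h k i) * res (rest t k) := fun i => by
      rw [hr, hvu, ← map_mul]
    have hyG : ∀ i, (⟨y, hy, hk⟩ : (G : Scheme.{u})) ∈ (G : Scheme.{u}).basicOpen (rr i) →
        qP y ∈ AmpleEmb.stdOpen N A i := fun i hi => (hr2 i).ge hi
    rcases ht : t k with _ | (i | ⟨i, j⟩)
    · have hrel : ∑ i, P (a k i) * rr (nb i) = 1 := by
        refine injective_appTop τ hτ (hu.mul_left_inj.1 ?_)
        show ρ _ * res (v cc) = ρ 1 * res (v cc)
        rw [map_sum, map_one, one_mul, Finset.sum_mul]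
        simp_rw [map_mul, hρP, mul_assoc, hRn, ← mul_assoc]
        rw [← Finset.sum_mul]
        have e := congrArg (X.presheaf.map (homOfLE hVI).op) (hsum k)
        rw [map_sum, map_one] at e
        simp_rw [map_mul, rres'] at e
        refine (congrArg (· * res (rest t k)) e).trans ?_
        rw [one_mul]
        refine congrArg res ((hvt t k).trans ?_).symm
        rw [ht]
        exact one_mul _
      obtain ⟨i, hi⟩ := exists_isUnit_of_sum (⟨y, hy, hk⟩ : (G : Scheme.{u})) _ _ hrel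
      exact ⟨nb i, ⟨k, i, by simp [nb]⟩, hyG _ hi⟩
    · exact ⟨cc, ⟨k, i, ht⟩, hy⟩
    · have hrel : P (w k j) * rr (nb i) = 1 := by
        refine injective_appTop τ hτ (hu.mul_left_inj.1 ?_)
        show ρ _ * res (v cc) = ρ 1 * res (v cc)
        rw [map_mul, map_one, one_mul, hρP, mul_assoc, hRn, ← mul_assoc]
        have e := congrArg (X.presheaf.map (homOfLE hVI).op) (hc k i j)
        rw [map_mul, rres' inf_le_right, rres' inf_le_left, rres' inf_le_right] at e
        refine (congrArg (· * res (rest t k)) e.symm).trans ?_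
        rw [← map_mul]
        refine congrArg res ((hvt t k).trans ?_).symm
        rw [ht]
      obtain ⟨-, hi⟩ := exists_isUnit_of_sum (⟨y, hy, hk⟩ : (G : Scheme.{u})) (fun _ : Unit => P (w k j))
        (fun _ => rr (nb i)) (by simpa using hrel)
      exact ⟨nb i, ⟨k, i, by simp [nb]⟩, hyG _ hi⟩
  haveI : IsProper π := inferInstance
  haveI : CompactSpace α.image := QuasiCompact.compactSpace_of_compactSpace π
  obtain ⟨L, hL⟩ := exists_isAmple_of_charts qP Good hcover haff
  refine ⟨α.image, π, L, inferInstance, isIso_restrict_of_graph hU α.imageι σ hσ pt hpt hσπ hσq,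
    Dense.mono ?_ σ.denseRange, hL⟩
  rintro _ ⟨z, rfl⟩
  show π (σ z) ∈ U
  rw [← Scheme.Hom.comp_apply, hσπ]
  exact hU.opensRange_fromSpec.le ⟨z, rfl⟩

end Groth.Agent.AmpleFamLib
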