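import Groth.Agent.AmpleFamLib.CodimOne
import Groth.Agent.AmpleEmb.ComposeRel
import Groth.Agent.AmpleEmb.FiniteSet
import Groth.Agent.InvDescLib.Frames
import Groth.Agent.RelVALib.EmbGen
import Groth.Agent.S0021

/-!
An ample invertible module descends along a finite morphism which is an isomorphism away from the
affine locus of one of its sections.
-/

set_option autoImplicit false
set_option linter.style.haveILetI false

universe u

open CategoryTheory CategoryTheory.Limits AlgebraicGeometry TopologicalSpace Opposite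
open Groth.Agent.ParaFLib Groth.Agent.PullbackMod Groth.Agent.DCohLib Groth.Agent.AmpleLib

noncomputable section

namespace Groth.Agent.AmpleFamLib

theorem morphismRestrict_of_le' {P : MorphismProperty Scheme.{u}} [P.IsStableUnderBaseChange]
    {X Y : Scheme.{u}} (f : X ⟶ Y) {U U' : Y.Opens} (hle : U' ≤ U) (h : P (f ∣_ U)) :
    P (f ∣_ U') := by
  have hsq : IsPullback (X.homOfLE (f.preimage_mono hle)) (f ∣_ U') (f ∣_ U) (Y.homOfLE hle) := by
    refine IsPullback.of_right ?_ ?_ (isPullback_morphismRestrict f U).flip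
    · simpa using (isPullback_morphismRestrict f U').flip
    · rw [← cancel_mono U.ι]
      simp [morphismRestrict_ι]
  exact MorphismProperty.of_isPullback hsq h

variable {Y Z : Scheme.{u}} (f : Y ⟶ Z) (U : Z.Opens)

theorem bijective_app_of_le [IsIso (f ∣_ U)] {O : Z.Opens} (hO : O ≤ U) : Function.Bijective (f.app O) := by
  obtain ⟨O', rfl⟩ : ∃ O' : (U : Scheme.{u}).Opens, U.ι ''ᵁ O' = O :=
    ⟨U.ι ⁻¹ᵁ O, by rw [Scheme.Hom.image_preimage_eq_opensRange_inf, Scheme.Opens.opensRange_ι, inf_eq_right.2 hO]⟩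
  have h : IsIso ((f ∣_ U).app O') := inferInstance
  haveI : IsIso (f.app (U.ι ''ᵁ O') ≫ Y.presheaf.map (eqToHom (image_morphismRestrict_preimage f U O')).op) :=
    morphismRestrict_app f U O' ▸ h
  haveI : IsIso (f.app (U.ι ''ᵁ O')) := IsIso.of_isIso_comp_right _ (Y.presheaf.map (eqToHom (image_morphismRestrict_preimage f U O')).op)
  exact ConcreteCategory.bijective_of_isIso _

theorem app_res {V V' : Z.Opens} (h : V' ≤ V) (r : Γ(Z, V)) :
    f.app V' (Z.presheaf.map (homOfLE h).op r) =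
      Y.presheaf.map (homOfLE (f.preimage_mono h)).op (f.app V r) := by
  have := ConcreteCategory.congr_hom (f.naturality (homOfLE h).op) r
  exact this

theorem pull_smul {L : Z.Modules} {O : Z.Opens} (r : Γ(Z, O)) (m : Γ(L, O)) :
    pullMap f L (le_refl (f ⁻¹ᵁ O)) (r • m) = f.app O r • pullMap f L (le_refl (f ⁻¹ᵁ O)) m := by
  rw [pullMap_smul, Scheme.Hom.appLE_eq_app]

theorem bijective_pullMap_aux [IsIso (f ∣_ U)] {L : Z.Modules} (hL : PicF.IsInvertible L) {O : Z.Opens}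
    (hO : O ≤ U) {e : Γ(L, O)} (he : Gen O e) :
    Function.Bijective (pullMap f L (le_refl (f ⁻¹ᵁ O))) := by
  have h1 : Function.Bijective fun r : Γ(Z, O) => r • e := by
    have := he O le_rfl
    simpa only [res_self] using this
  have h2 : Function.Bijective fun r : Γ(Y, f ⁻¹ᵁ O) => r • pullMap f L (le_refl (f ⁻¹ᵁ O)) e := by
    have := AmpleEmb.gen_pullMap f hL he (f ⁻¹ᵁ O) le_rfl
    simpa only [res_self] using this
  refine (Function.Bijective.of_comp_iff _ h1).1 ?_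
  have : (pullMap f L (le_refl (f ⁻¹ᵁ O))) ∘ (fun r : Γ(Z, O) => r • e) =
      (fun r : Γ(Y, f ⁻¹ᵁ O) => r • pullMap f L (le_refl (f ⁻¹ᵁ O)) e) ∘ f.app O :=
    funext fun r => pull_smul f r e
  rw [this]
  exact h2.comp (bijective_app_of_le f U hO)

/-- Where `f` is an isomorphism, sections of an invertible module are those of its pullback. -/
theorem bijective_pullMap_of_isIso [IsIso (f ∣_ U)] {L : Z.Modules} (hL : PicF.IsInvertible L) {O : Z.Opens}
    (hO : O ≤ U) : Function.Bijective (pullMap f L (le_refl (f ⁻¹ᵁ O))) := by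
  choose N e hzN he using fun z : O => exists_gen_nhd hL z.1
  let V : O → Z.Opens := fun z => O ⊓ N z
  have hV : O ≤ iSup V := fun z hz => Opens.mem_iSup.2 ⟨⟨z, hz⟩, hz, hzN _⟩
  have hV' : f ⁻¹ᵁ O ≤ iSup fun z => f ⁻¹ᵁ V z := by
    rw [← Scheme.Hom.preimage_iSup]
    exact f.preimage_mono hV
  have hbij : ∀ z (O' : Z.Opens) (_ : O' ≤ V z), Function.Bijective (pullMap f L (le_refl (f ⁻¹ᵁ O'))) :=
    fun z O' h => bijective_pullMap_aux f U hL (h.trans (inf_le_left.trans hO))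
      ((he z).res (h.trans inf_le_right))
  have hinj : ∀ (O' : Z.Opens), O' ≤ O → Function.Injective (pullMap f L (le_refl (f ⁻¹ᵁ O'))) := by
    intro O' hO' m m' h
    refine TopCat.Sheaf.eq_of_locally_eq' (C := Ab.{u}) ⟨L.presheaf, L.isSheaf⟩ (fun z => O' ⊓ V z) O'
      (fun z => homOfLE inf_le_left) (fun w hw => Opens.mem_iSup.2 ⟨⟨w, hO' hw⟩, hw, hO' hw, hzN _⟩) m m' fun z => ?_
    refine (hbij z (O' ⊓ V z) inf_le_right).1 ?_
    show pullMap f L _ (L.presheaf.map (homOfLE inf_le_left).op m) =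
      pullMap f L _ (L.presheaf.map (homOfLE inf_le_left).op m')
    rw [← pullMap_res f L le_rfl inf_le_left (f.preimage_mono inf_le_left) le_rfl,
      ← pullMap_res f L le_rfl inf_le_left (f.preimage_mono inf_le_left) le_rfl, h]
  refine ⟨hinj O le_rfl, fun v => ?_⟩
  let P := (Scheme.Modules.pullback f).obj L
  choose w hw using fun z => (hbij z (V z) le_rfl).2 (P.presheaf.map (homOfLE (f.preimage_mono inf_le_left)).op v)
  obtain ⟨m, hm, -⟩ := TopCat.Sheaf.existsUnique_gluing' (C := Ab.{u}) ⟨L.presheaf, L.isSheaf⟩ V O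
    (fun z => homOfLE inf_le_left) hV w fun i j => by
      refine hinj _ (inf_le_left.trans inf_le_left) ?_
      show pullMap f L _ (L.presheaf.map (homOfLE inf_le_left).op (w i)) =
        pullMap f L _ (L.presheaf.map (homOfLE inf_le_right).op (w j))
      rw [← pullMap_res f L le_rfl inf_le_left (f.preimage_mono inf_le_left) le_rfl,
        ← pullMap_res f L le_rfl inf_le_right (f.preimage_mono inf_le_right) le_rfl, hw, hw,
        res_res, res_res]
  refine ⟨m, TopCat.Sheaf.eq_of_locally_eq' (C := Ab.{u}) ⟨P.presheaf, P.isSheaf⟩ (fun z => f ⁻¹ᵁ V z) _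
    (fun z => homOfLE (f.preimage_mono inf_le_left)) hV' _ _ fun z => ?_⟩
  show P.presheaf.map _ _ = _
  refine (pullMap_res f L le_rfl inf_le_left (f.preimage_mono inf_le_left) le_rfl m).trans ?_
  rw [show L.presheaf.map (homOfLE inf_le_left).op m = w z from hm z]
  exact hw z

/-- Descent of an invertible module with a section generating over the preimage of `W`. -/
theorem exists_descend [IsIso (f ∣_ U)] (W : Z.Opens) (hUW : ∀ z, z ∈ U ∨ z ∈ W) {M : Y.Modules}
    (hM : PicF.IsInvertible M) (s : Coh.structureModule Y ⟶ M) (hs : CohB1.genLocus M s = f ⁻¹ᵁ W) :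
    ∃ (L : Z.Modules) (σ : Coh.structureModule Z ⟶ L), PicF.IsInvertible L ∧ CohB1.genLocus L σ = W ∧
      Nonempty ((Scheme.Modules.pullback f).obj L ≅ M) := by
  classical
  have hsurj : ∀ u : U, ∃ y : Y, f y = u.1 := fun u => by
    obtain ⟨y, hy⟩ := (f ∣_ U).homeomorph.surjective u
    exact ⟨y.1, (morphismRestrict_base_coe f U y).symm.trans (congrArg Subtype.val hy)⟩
  choose y hy using hsurj
  have hnb : ∀ u : U, ∃ (N : Z.Opens) (d : Γ(M, f ⁻¹ᵁ N)), u.1 ∈ N ∧ N ≤ U ∧ Gen (f ⁻¹ᵁ N) d := fun u => by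
    obtain ⟨O', d, hyO, hd⟩ := exists_gen_nhd hM (y u)
    let O₁ : (f ⁻¹ᵁ U : Scheme.{u}).Opens := (f ⁻¹ᵁ U).ι ⁻¹ᵁ O'
    let N : Z.Opens := U.ι ''ᵁ ((f ∣_ U) ''ᵁ O₁)
    have hle : f ⁻¹ᵁ N ≤ O' := by
      rintro w ⟨z, ⟨v, hv, hvz⟩, hzw⟩
      have hwU : f w ∈ U := hzw ▸ z.2
      have : v = ⟨w, hwU⟩ := (f ∣_ U).homeomorph.injective (Subtype.ext (by
        show ((f ∣_ U) v).1 = ((f ∣_ U) ⟨w, hwU⟩).1
        exact ((congrArg Subtype.val hvz).trans hzw).trans (morphismRestrict_base_coe f U ⟨w, hwU⟩).symm))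
      subst this
      exact hv
    refine ⟨N, M.presheaf.map (homOfLE hle).op d, ⟨⟨u.1, u.2⟩, ⟨⟨y u, show f (y u) ∈ U by rw [hy u]; exact u.2⟩, hyO,
      Subtype.ext ((morphismRestrict_base_coe f U _).trans (hy u))⟩, rfl⟩, ?_, hd.res hle⟩
    rintro _ ⟨z, -, rfl⟩
    exact z.2
  choose N d huN hNU hd using hnb
  let Wc : Option U → Z.Opens := fun i => i.elim W N
  let D : ∀ i, Γ(M, f ⁻¹ᵁ Wc i) := fun i => match i with
    | none => resT (sec s) (f ⁻¹ᵁ W)
    | some u => d u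
  have hD : ∀ i, Gen (f ⁻¹ᵁ Wc i) (D i) := fun i => match i with
    | none => gen_of_germ fun z hz => by
        show Function.Bijective fun r => r • M.presheaf.germ (f ⁻¹ᵁ W) z hz (resT (sec s) (f ⁻¹ᵁ W))
        rw [TopCat.Presheaf.germ_res_apply]
        exact (mem_genLocus_iff hM).1 (hs.ge hz)
    | some u => hd u
  have hcov : iSup Wc = ⊤ := top_le_iff.1 fun z _ => (hUW z).elim
    (fun hz => Opens.mem_iSup.2 ⟨some ⟨z, hz⟩, huN _⟩) fun hz => Opens.mem_iSup.2 ⟨none, hz⟩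
  have hoff : ∀ i j, i ≠ j → Wc i ⊓ Wc j ≤ U := fun i j hij => match i, j with
    | some u, _ => inf_le_left.trans (hNU u)
    | none, some u => inf_le_right.trans (hNU u)
    | none, none => absurd rfl hij
  have hη : ∀ i j, ∃ η : (Γ(Z, Wc i ⊓ Wc j))ˣ, (i = j → η = 1) ∧
      f.app _ (η : Γ(Z, Wc i ⊓ Wc j)) • M.presheaf.map (homOfLE (f.preimage_mono inf_le_right)).op (D j) =
        M.presheaf.map (homOfLE (f.preimage_mono inf_le_left)).op (D i) := fun i j => by
    by_cases hij : i = j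
    · subst hij
      refine ⟨1, fun _ => rfl, ?_⟩
      rw [Units.val_one, map_one, one_smul]
    · obtain ⟨v, hv, hve⟩ := ((hD i).res (f.preimage_mono (inf_le_left (b := Wc j)))).exists_unit
        ((hD j).res (f.preimage_mono (inf_le_right (a := Wc i))))
      let E := RingEquiv.ofBijective (f.app (Wc i ⊓ Wc j)).hom (bijective_app_of_le f U (hoff i j hij))
      refine ⟨Units.map E.symm.toMonoidHom hv.unit, fun h => absurd h hij, ?_⟩
      show E (E.symm v) • _ = _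
      rw [E.apply_symm_apply]
      exact hve
  choose η hη1 hη2 using hη
  have hc : IsCocycle Wc η := by
    intro i j k
    by_cases hij : i = j
    · subst hij
      simp only [hη1 i i rfl, Units.val_one, map_one, one_mul]
    by_cases hjk : j = k
    · subst hjk
      simp only [hη1 j j rfl, Units.val_one, map_one, mul_one]
    let V := Wc i ⊓ Wc j ⊓ Wc k
    have hVU : V ≤ U := inf_le_left.trans (hoff i j hij)
    refine (bijective_app_of_le f U hVU).1 (((hD k) (f ⁻¹ᵁ V) (f.preimage_mono inf_le_right)).1 ?_)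
    show f.app V _ • _ = f.app V _ • _
    rw [map_mul, app_res f, app_res f, app_res f, mul_smul]
    have e : ∀ a b (h : V ≤ Wc a ⊓ Wc b),
        Y.presheaf.map (homOfLE (f.preimage_mono h)).op (f.app _ (η a b : Γ(Z, Wc a ⊓ Wc b))) •
          M.presheaf.map (homOfLE (f.preimage_mono (h.trans inf_le_right))).op (D b) =
            M.presheaf.map (homOfLE (f.preimage_mono (h.trans inf_le_left))).op (D a) := fun a b h => by
      have := congrArg (M.presheaf.map (homOfLE (f.preimage_mono h)).op) (hη2 a b)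
      rw [M.map_smul, res_res, res_res] at this
      exact this
    rw [e i k (inf_le_inf_right (Wc k) inf_le_left), e j k (inf_le_inf_right (Wc k) inf_le_right),
      e i j inf_le_left]
  obtain ⟨L, e, hL, he, hee⟩ := exists_invertible_of_cocycle Wc η hcov hc
  -- the section
  have ha : ∀ i, ∃ a : Γ(Z, Wc i), f.app _ a • D i = resT (sec s) (f ⁻¹ᵁ Wc i) ∧ Z.basicOpen a ≤ W ∧
      Wc i ⊓ W ≤ Z.basicOpen a := fun i => match i with
    | none => ⟨(1 : Γ(Z, W)), by
        show f.app W 1 • resT (sec s) (f ⁻¹ᵁ W) = _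
        rw [map_one, one_smul]
        rfl, Z.basicOpen_le _, fun z hz => (Scheme.basicOpen_of_isUnit Z (isUnit_one (M := Γ(Z, W)))).ge hz.1⟩
    | some u => by
        obtain ⟨b, hb⟩ := (hd u _ le_rfl).2 (resT (sec s) (f ⁻¹ᵁ N u))
        simp only [res_self] at hb
        obtain ⟨a, rfl⟩ := (bijective_app_of_le f U (hNU u)).2 b
        have hl := genLocus_inf_eq_basicOpen s (hd u) hb
        rw [hs, ← Scheme.preimage_basicOpen, ← Scheme.Hom.preimage_inf] at hl
        have hsu : ∀ z ∈ N u, ∃ w, f w = z := fun z hz => by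
          obtain ⟨w, hw⟩ := (f ∣_ U).homeomorph.surjective ⟨z, hNU u hz⟩
          exact ⟨w.1, (morphismRestrict_base_coe f U w).symm.trans (congrArg Subtype.val hw)⟩
        refine ⟨a, hb, fun z hz => ?_, fun z hz => ?_⟩
        · obtain ⟨w, rfl⟩ := hsu z (Z.basicOpen_le a hz)
          exact (hl.ge (show w ∈ f ⁻¹ᵁ Z.basicOpen a from hz)).1
        · obtain ⟨w, rfl⟩ := hsu z hz.1
          exact (hl.le (show w ∈ f ⁻¹ᵁ (W ⊓ N u) from ⟨hz.2, hz.1⟩) : w ∈ f ⁻¹ᵁ Z.basicOpen a)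
  choose a ha haW hWa using ha
  obtain ⟨σ, hσ, -⟩ := TopCat.Sheaf.existsUnique_gluing' (C := Ab.{u}) ⟨L.presheaf, L.isSheaf⟩ Wc ⊤
    (fun i => homOfLE le_top) hcov.ge (fun i => (a i • e i : Γ(L, Wc i))) (fun i j => by
      show L.presheaf.map (homOfLE inf_le_left).op (a i • e i) = L.presheaf.map (homOfLE inf_le_right).op (a j • e j)
      rw [L.map_smul, L.map_smul, hee i j, smul_smul]
      refine congrArg (· • _) ?_
      by_cases hij : i = j
      · subst hij
        rw [hη1 i i rfl, Units.val_one, mul_one]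
      refine (bijective_app_of_le f U (hoff i j hij)).1
        (((hD j) _ (f.preimage_mono inf_le_right)).1 ?_)
      show f.app _ _ • _ = f.app _ _ • _
      rw [map_mul, mul_smul, hη2 i j, app_res f, app_res f, ← M.map_smul, ← M.map_smul, ha i, ha j, resT, resT,
        res_res, res_res])
  refine ⟨L, secHom L σ, hL, ?_, ?_⟩
  · have hloc : ∀ i, CohB1.genLocus L (secHom L σ) ⊓ Wc i = Z.basicOpen (a i) := fun i =>
      genLocus_inf_eq_basicOpen _ (he i) (by rw [sec_secHom]; exact (hσ i).symm)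
    refine le_antisymm (fun z hz => ?_) fun z hz => ?_
    · obtain ⟨i, hi⟩ := Opens.mem_iSup.1 (hcov.ge (Opens.mem_top z))
      exact haW i ((hloc i).le ⟨hz, hi⟩)
    · exact ((hloc none).ge (hWa none ⟨hz, hz⟩)).1
  · refine nonempty_iso_of_bases (U := fun i => f ⁻¹ᵁ Wc i) (s := fun i => pullMap f L le_rfl (e i)) (t := D)
      (Scheme.Hom.iSup_preimage_eq_top f hcov) (fun i => AmpleEmb.gen_pullMap f hL (he i)) hD
      (fun i j => f.app _ (η i j : Γ(Z, Wc i ⊓ Wc j))) (fun i j => ?_) fun i j => (hη2 i j).symm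
    refine (pullMap_res f L (le_refl (f ⁻¹ᵁ Wc i)) (inf_le_left : Wc i ⊓ Wc j ≤ Wc i) (f.preimage_mono inf_le_left)
      (le_refl (f ⁻¹ᵁ (Wc i ⊓ Wc j))) (e i)).trans ?_
    rw [hee i j]
    refine (pull_smul f (L := L) (η i j : Γ(Z, Wc i ⊓ Wc j))
      (L.presheaf.map (homOfLE (inf_le_right : Wc i ⊓ Wc j ≤ Wc j)).op (e j))).trans ?_
    refine congrArg (fun v : Γ((Scheme.Modules.pullback f).obj L, f ⁻¹ᵁ (Wc i ⊓ Wc j)) =>
      f.app (Wc i ⊓ Wc j) (η i j : Γ(Z, Wc i ⊓ Wc j)) • v) ?_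
    exact (pullMap_res f L (le_refl (f ⁻¹ᵁ Wc j)) (inf_le_right : Wc i ⊓ Wc j ≤ Wc j)
      (f.preimage_mono inf_le_right) (le_refl (f ⁻¹ᵁ (Wc i ⊓ Wc j))) (e j)).symm

/-- High powers of functions supported over `U` come from `W`. -/
theorem exists_pow_mem_range [IsLocallyNoetherian Z] [IsFinite f] [IsIso (f ∣_ U)] {W : Z.Opens}
    (hW : IsAffineOpen W) (φ : Γ(Y, f ⁻¹ᵁ W)) (hφ : ∀ y ∈ Y.basicOpen φ, f y ∈ U) :
    ∃ q : ℕ, ∀ u : Γ(Y, f ⁻¹ᵁ W), ∃ a : Γ(Z, W), f.app W a = φ ^ (q + 1) * u := by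
  classical
  haveI : IsNoetherianRing Γ(Z, W) := IsLocallyNoetherian.component_noetherian ⟨W, hW⟩
  have hA : IsAffineOpen (f ⁻¹ᵁ W) := hW.preimage f
  let ρ := (f.app W).hom
  have hfin : ρ.Finite := IsFinite.finite_app f W hW
  let J : Ideal Γ(Z, W) :=
    { carrier := {a | ∀ u, ∃ c, ρ c = ρ a * u}
      zero_mem' := fun u => ⟨0, by rw [map_zero, zero_mul]⟩
      add_mem' := fun {x y} hx hy u => by
        obtain ⟨c, hc⟩ := hx u
        obtain ⟨d, hd⟩ := hy u
        exact ⟨c + d, by rw [map_add, map_add, add_mul, hc, hd]⟩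
      smul_mem' := fun r x hx u => by
        obtain ⟨c, hc⟩ := hx u
        exact ⟨r * c, by rw [smul_eq_mul, map_mul, map_mul, hc, mul_assoc]⟩ }
  let C' : Set (PrimeSpectrum Γ(Z, W)) := hW.fromSpec ⁻¹' (U : Set Z)ᶜ
  have hC' : IsClosed C' := U.2.isClosed_compl.preimage hW.fromSpec.continuous
  let I := PrimeSpectrum.vanishingIdeal C'
  have hz : PrimeSpectrum.zeroLocus (I : Set Γ(Z, W)) = C' := by
    rw [PrimeSpectrum.zeroLocus_vanishingIdeal_eq_closure, hC'.closure_eq]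
  have hI : I ≤ J.radical := by
    intro a ha
    have haU : Z.basicOpen a ≤ U := fun w hw => by
      by_contra hwU
      have h1 : hW.primeIdealOf ⟨w, Z.basicOpen_le a hw⟩ ∈ C' := by
        show hW.fromSpec (hW.primeIdealOf ⟨w, Z.basicOpen_le a hw⟩) ∈ (U : Set Z)ᶜ
        rw [hW.fromSpec_primeIdealOf]
        exact hwU
      have h2 := (PrimeSpectrum.mem_vanishingIdeal _ _).1 ha _ h1
      have h3 : hW.primeIdealOf ⟨w, Z.basicOpen_le a hw⟩ ∈ hW.fromSpec ⁻¹ᵁ Z.basicOpen a := by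
        show hW.fromSpec _ ∈ Z.basicOpen a
        rw [hW.fromSpec_primeIdealOf]
        exact hw
      rw [hW.fromSpec_preimage_basicOpen] at h3
      exact h3 h2
    have hb : ∀ b : Γ(Y, f ⁻¹ᵁ W), ∃ (i : ℕ) (c : Γ(Z, W)), ρ c = ρ a ^ i * b := fun b => by
      obtain ⟨c, hc⟩ := (bijective_app_of_le f U haU).2
        (Y.presheaf.map (homOfLE (f.preimage_mono (Z.basicOpen_le a))).op b)
      letI := hW.isLocalization_basicOpen a
      obtain ⟨i, a', ha'⟩ := IsLocalization.Away.surj a c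
      letI := hA.isLocalization_basicOpen (ρ a)
      change c * Z.presheaf.map (homOfLE (Z.basicOpen_le a)).op a ^ i =
        Z.presheaf.map (homOfLE (Z.basicOpen_le a)).op a' at ha'
      have e := congrArg (f.app (Z.basicOpen a)) ha'
      rw [map_mul, map_pow, hc, app_res f, app_res f, ← map_pow, ← map_mul] at e
      have hle : Y.basicOpen (ρ a) ≤ f ⁻¹ᵁ Z.basicOpen a := (Scheme.preimage_basicOpen f a).ge
      have e' := congrArg (Y.presheaf.map (homOfLE hle).op) e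
      rw [rres, rres] at e'
      obtain ⟨⟨_, j, rfl⟩, hj⟩ := (IsLocalization.eq_iff_exists (Submonoid.powers (ρ a))
        Γ(Y, Y.basicOpen (ρ a))).1 e'
      refine ⟨j + i, a ^ j * a', ?_⟩
      change ρ a ^ j * (b * ρ a ^ i) = ρ a ^ j * ρ a' at hj
      rw [map_mul, map_pow, ← hj, pow_add]
      ring
    letI := ρ.toAlgebra
    haveI : Module.Finite Γ(Z, W) Γ(Y, f ⁻¹ᵁ W) := hfin
    obtain ⟨G, hG⟩ := (Module.Finite.fg_top : (⊤ : Submodule Γ(Z, W) Γ(Y, f ⁻¹ᵁ W)).FG)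
    choose i c hc using hb
    refine ⟨G.sup i, fun u => ?_⟩
    have hu : u ∈ Submodule.span Γ(Z, W) (G : Set Γ(Y, f ⁻¹ᵁ W)) := hG.ge trivial
    induction hu using Submodule.span_induction with
    | mem b hb =>
      refine ⟨a ^ (G.sup i - i b) * c b, ?_⟩
      rw [map_mul, hc, ← mul_assoc, map_pow, map_pow, ← pow_add, Nat.sub_add_cancel (Finset.le_sup hb)]
    | zero => exact ⟨0, by rw [map_zero, mul_zero]⟩
    | add x y _ _ hx hy =>
      obtain ⟨c, hc⟩ := hx
      obtain ⟨d, hd⟩ := hy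
      exact ⟨c + d, by rw [map_add, hc, hd, mul_add]⟩
    | smul r x _ hx =>
      obtain ⟨c, hc⟩ := hx
      refine ⟨r * c, ?_⟩
      show ρ (r * c) = _ * (ρ r * x)
      rw [map_mul, hc]
      ring
  obtain ⟨N, hN⟩ := Ideal.exists_pow_le_of_le_radical_of_fg hI (IsNoetherian.noetherian I)
  have hφI : φ ∈ (I.map ρ).radical := by
    rw [Ideal.radical_eq_sInf, Submodule.mem_sInf]
    rintro P ⟨hP, hPp⟩
    let Q : PrimeSpectrum Γ(Y, f ⁻¹ᵁ W) := ⟨P, hPp⟩
    by_contra hn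
    have h1 : Q ∈ hA.fromSpec ⁻¹ᵁ Y.basicOpen φ := by
      rw [hA.fromSpec_preimage_basicOpen]
      exact hn
    have h2 : PrimeSpectrum.comap ρ Q ∈ C' := hz.le fun x hx => hP (Ideal.mem_map_of_mem ρ hx)
    refine h2 ?_
    have h3 := hφ _ h1
    have h4 : f (hA.fromSpec Q) = hW.fromSpec (Spec.map (f.appLE W (f ⁻¹ᵁ W) le_rfl) Q) := by
      rw [← Scheme.Hom.comp_apply, ← Scheme.Hom.comp_apply, hW.SpecMap_appLE_fromSpec f hA le_rfl]
    rw [h4, Scheme.Hom.appLE_eq_app] at h3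
    exact h3
  obtain ⟨r, hr⟩ := hφI
  refine ⟨r * N, fun u => ?_⟩
  let K : Ideal Γ(Y, f ⁻¹ᵁ W) :=
    { carrier := {b | ∀ u, ∃ c, ρ c = b * u}
      zero_mem' := fun u => ⟨0, by rw [map_zero, zero_mul]⟩
      add_mem' := fun {x y} hx hy u => by
        obtain ⟨c, hc⟩ := hx u
        obtain ⟨d, hd⟩ := hy u
        exact ⟨c + d, by rw [map_add, add_mul, hc, hd]⟩
      smul_mem' := fun r x hx u => by
        obtain ⟨c, hc⟩ := hx (r * u)
        exact ⟨c, by rw [smul_eq_mul, hc]; ring⟩ }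
  have h1 : φ ^ (r * N) ∈ K := by
    refine (Ideal.map_le_iff_le_comap.2 (fun x hx => hx : J ≤ K.comap ρ)) (Ideal.map_mono hN ?_)
    rw [Ideal.map_pow, pow_mul]
    exact Ideal.pow_mem_pow hr N
  obtain ⟨c, hc⟩ := K.mul_mem_right φ h1 u
  exact ⟨c, hc.trans (by rw [pow_succ])⟩

/-- An ample module descends along a finite surjective morphism which is an isomorphism outside the
affine locus of one of its sections. -/
theorem exists_isAmple_descend [IsNoetherian Z] [IsFinite f] [Surjective f] [IsIso (f ∣_ U)] (W : Z.Opens)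
    (hUW : ∀ z, z ∈ U ∨ z ∈ W) {M : Y.Modules} (hM : CohB1.IsAmple M) (s : Coh.structureModule Y ⟶ M)
    (hs : CohB1.genLocus M s = f ⁻¹ᵁ W) (hA : IsAffineOpen (f ⁻¹ᵁ W)) :
    ∃ L : Z.Modules, CohB1.IsAmple L ∧ Nonempty ((Scheme.Modules.pullback f).obj L ≅ M) := by
  classical
  have hW : IsAffineOpen W := by
    haveI : IsFinite (f ∣_ W) := IsZariskiLocalAtTarget.restrict ‹_› W
    haveI : Surjective (f ∣_ W) := IsZariskiLocalAtTarget.restrict ‹_› W
    haveI : IsAffine (f ⁻¹ᵁ W) := hA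
    haveI : NoetherianSpace (W : Scheme.{u}) := W.ι.isOpenEmbedding.isInducing.noetherianSpace
    haveI : IsNoetherian (W : Scheme.{u}) := ⟨⟩
    exact S0021.result (f ∣_ W)
  obtain ⟨L, σ, hL, hσ, ⟨θ⟩⟩ := exists_descend f U W hUW hM.1 s hs
  refine ⟨L, ⟨hL, inferInstance, fun z => ?_⟩, ⟨θ⟩⟩
  by_cases hzW : z ∈ W
  · refine ⟨0, powS σ 1, ?_⟩
    rw [genLocus_powS hL σ 0, hσ]
    exact ⟨hzW, hW⟩
  obtain ⟨y, rfl⟩ := f.surjective z
  have hyU : f y ∈ U := (hUW _).resolve_right hzW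
  let P := (Scheme.Modules.pullback f).obj L
  have hP : CohB1.IsAmple P := isAmple_of_iso θ.symm hM
  obtain ⟨n, T, hyT, hTU, hTa⟩ := exists_small_genLocus hP (U := f ⁻¹ᵁ U) hyU
  let e₁ : Γ(L, W) := resT (sec σ) W
  have he₁ : Gen W e₁ := gen_of_germ fun w hw => by
    show Function.Bijective fun r => r • L.presheaf.germ W w hw (resT (sec σ) W)
    rw [TopCat.Presheaf.germ_res_apply]
    exact (mem_genLocus_iff hL).1 (hσ.ge hw)
  have hg₁ : Gen (f ⁻¹ᵁ W) (pullMap f L le_rfl e₁) := AmpleEmb.gen_pullMap f hL he₁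
  have hg₂ := gen_powLoc hg₁ (n + 1)
  obtain ⟨φ, hφ⟩ := (hg₂ (f ⁻¹ᵁ W) le_rfl).2 (resT (sec T) (f ⁻¹ᵁ W))
  simp only [res_self] at hφ
  have hφU : ∀ w ∈ Y.basicOpen φ, f w ∈ U := fun w hw =>
    hTU ((genLocus_inf_eq_basicOpen T hg₂ hφ).ge hw).1
  obtain ⟨q, hq⟩ := exists_pow_mem_range f U hW φ hφU
  obtain ⟨m, hm⟩ : ∃ m, (n + 1) * (q + 1) = m + 1 :=
    ⟨(n + 1) * (q + 1) - 1, (Nat.succ_pred_eq_of_pos (Nat.mul_pos (Nat.succ_pos n) (Nat.succ_pos q))).symm⟩
  let Q := CohB1.tensorPow L (m + 1)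
  let fQ := (Scheme.Modules.pullback f).obj Q
  let ψ : CohB1.tensorPow (CohB1.tensorPow P (n + 1)) (q + 1) ≅ fQ :=
    powMul P (n + 1) (q + 1) ≪≫ eqToIso (congrArg (CohB1.tensorPow P) hm) ≪≫ (pullPow f L (m + 1)).symm
  let T' : Coh.structureModule Y ⟶ fQ := powS T (q + 1) ≫ ψ.hom
  have hT'U : CohB1.genLocus fQ T' = CohB1.genLocus _ T := by
    rw [genLocus_comp_iso, genLocus_powS (isInvertible_tensorPow hP.1 (n + 1))]
  have hgQ := gen_powLoc he₁ (m + 1)
  let gQ := pullMap f Q (le_refl (f ⁻¹ᵁ W)) (powLoc e₁ (m + 1))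
  have hg' := InvDescLib.gen_of_iso ψ (gen_powLoc hg₂ (q + 1))
  obtain ⟨u, -, hu⟩ := hg'.exists_unit (AmpleEmb.gen_pullMap f (isInvertible_tensorPow hL (m + 1)) hgQ)
  obtain ⟨a, ha⟩ := hq u
  have hco : f.app W a • gQ = resT (sec T') (f ⁻¹ᵁ W) := by
    have e1 : resT (sec T') (f ⁻¹ᵁ W) = ψ.hom.app (f ⁻¹ᵁ W) (resT (sec (powS T (q + 1))) (f ⁻¹ᵁ W)) := by
      show fQ.presheaf.map (homOfLE le_top).op (ψ.hom.app ⊤ ((powS T (q + 1)).app ⊤ (1 : Γ(Y, ⊤)))) = _
      exact (ConcreteCategory.congr_hom (ψ.hom.mapPresheaf.naturality (homOfLE (le_top : f ⁻¹ᵁ W ≤ ⊤)).op) _).symm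
    have e2 : resT (sec (powS T (q + 1))) (f ⁻¹ᵁ W) = φ ^ (q + 1) • powLoc (powLoc (pullMap f L le_rfl e₁) (n + 1)) (q + 1) := by
      rw [← powLoc_smul, hφ, sec_powS]
      exact powLoc_res le_top _ (q + 1)
    rw [e1, e2, Scheme.Modules.Hom.app_smul, ha, mul_smul, hu]
  have haU : Z.basicOpen a ≤ U := fun w hw => by
    obtain ⟨x, rfl⟩ := f.surjective w
    have h1 : x ∈ Y.basicOpen (f.app W a) := (Scheme.preimage_basicOpen f a).le hw
    rw [ha] at h1
    have h2 : x ∈ Y.basicOpen (φ ^ (q + 1)) := ((Y.basicOpen_mul _ u).le h1).1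
    rw [Scheme.basicOpen_pow _ _ (Nat.succ_pos q)] at h2
    exact hφU x h2
  have hQ := isInvertible_tensorPow hL (m + 1)
  obtain ⟨τU, hτU⟩ := (bijective_pullMap_of_isIso f U hQ (le_refl U)).2 (resT (sec T') (f ⁻¹ᵁ U))
  let O : ULift.{u} Bool → Z.Opens := fun b => if b.down then U else W
  let τs : ∀ b, Γ(Q, O b) := fun
    | ⟨true⟩ => τU
    | ⟨false⟩ => a • powLoc e₁ (m + 1)
  have hτs : ∀ b, pullMap f Q (le_refl (f ⁻¹ᵁ O b)) (τs b) = resT (sec T') (f ⁻¹ᵁ O b) := by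
    rintro ⟨_ | _⟩
    · exact (pull_smul f a _).trans hco
    · exact hτU
  have hOcov : (⊤ : Z.Opens) ≤ iSup O := fun w _ =>
    (hUW w).elim (fun h => Opens.mem_iSup.2 ⟨⟨true⟩, h⟩) fun h => Opens.mem_iSup.2 ⟨⟨false⟩, h⟩
  obtain ⟨τ, hτ, -⟩ := TopCat.Sheaf.existsUnique_gluing' (C := Ab.{u}) ⟨Q.presheaf, Q.isSheaf⟩ O ⊤
    (fun b => homOfLE le_top) hOcov τs (fun i j => by
      by_cases hij : i = j
      · subst hij; rfl
      have hle : O i ⊓ O j ≤ U := by
        obtain ⟨_ | _⟩ := i <;> obtain ⟨_ | _⟩ := j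
        · exact absurd rfl hij
        · exact inf_le_right
        · exact inf_le_left
        · exact inf_le_left
      refine (bijective_pullMap_of_isIso f U hQ hle).1 ?_
      show pullMap f Q _ (Q.presheaf.map (homOfLE inf_le_left).op (τs i)) =
        pullMap f Q _ (Q.presheaf.map (homOfLE inf_le_right).op (τs j))
      rw [← pullMap_res f Q le_rfl inf_le_left (f.preimage_mono inf_le_left) le_rfl,
        ← pullMap_res f Q le_rfl inf_le_right (f.preimage_mono inf_le_right) le_rfl, hτs, hτs, resT, resT,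
        res_res, res_res])
  let τh := secHom Q τ
  have hsec : sec (RelVALib.pullSec f τh) = sec T' := by
    refine TopCat.Sheaf.eq_of_locally_eq' (C := Ab.{u}) ⟨fQ.presheaf, fQ.isSheaf⟩ (fun b => f ⁻¹ᵁ O b) ⊤
      (fun b => homOfLE le_top) ?_ _ _ fun b => ?_
    · rw [← Scheme.Hom.preimage_iSup]
      exact fun w _ => hOcov (Opens.mem_top (f w))
    show fQ.presheaf.map (homOfLE le_top).op (sec (RelVALib.pullSec f τh)) = resT (sec T') (f ⁻¹ᵁ O b)
    rw [RelVALib.sec_pullSec, sec_secHom, ← hτs b]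
    refine (pullMap_res f Q _ le_top le_top (le_refl (f ⁻¹ᵁ O b)) τ).trans ?_
    exact congrArg (pullMap f Q (le_refl (f ⁻¹ᵁ O b))) (hτ b)
  have hpre : f ⁻¹ᵁ CohB1.genLocus Q τh = CohB1.genLocus _ T := by
    rw [← RelVALib.genLocus_pullSec f hQ, ← hT'U, ← secHom_sec T', ← secHom_sec (RelVALib.pullSec f τh), hsec]
  have hτW : CohB1.genLocus Q τh ⊓ W = Z.basicOpen a :=
    genLocus_inf_eq_basicOpen τh hgQ (by rw [sec_secHom]; exact (hτ ⟨false⟩).symm)
  have hGU : CohB1.genLocus Q τh ≤ U := fun w hw =>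
    (hUW w).elim id fun hwW => haU (hτW.le ⟨hw, hwW⟩)
  refine ⟨m, τh, hpre.ge hyT, ?_⟩
  haveI : IsIso (f ∣_ CohB1.genLocus Q τh) :=
    morphismRestrict_of_le' (P := MorphismProperty.isomorphisms Scheme.{u}) f hGU (‹IsIso (f ∣_ U)›)
  haveI : IsAffine (f ⁻¹ᵁ CohB1.genLocus Q τh) := hpre.symm ▸ hTa
  exact IsAffine.of_isIso (inv (f ∣_ CohB1.genLocus Q τh))

end Groth.Agent.AmpleFamLib
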