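import Mathlib

/-!
Functions on an affine open expressing another affine open of a separated scheme.
-/

set_option autoImplicit false
set_option linter.style.haveILetI false

universe u

open CategoryTheory CategoryTheory.Limits AlgebraicGeometry TopologicalSpace
open TensorProduct

noncomputable section

namespace Groth.Agent.AmpleFamLib

variable {A : Type u} [CommRing A] {X : Scheme.{u}} (p : X ⟶ Spec (CommRingCat.of A))

/-- On a scheme separated over `A`, functions on `W ⊓ U` are sums of products of functions on `W` and on `U`. -/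
theorem exists_sum_res [IsSeparated p] {W U : X.Opens} (hW : IsAffineOpen W) (hU : IsAffineOpen U)
    (c : Γ(X, W ⊓ U)) :
    c ∈ AddSubmonoid.closure {z | ∃ (a : Γ(X, W)) (b : Γ(X, U)),
      z = X.presheaf.map (homOfLE inf_le_left).op a * X.presheaf.map (homOfLE inf_le_right).op b} := by
  let φW : CommRingCat.of A ⟶ Γ(X, W) := Spec.preimage (hW.fromSpec ≫ p)
  let φU : CommRingCat.of A ⟶ Γ(X, U) := Spec.preimage (hU.fromSpec ≫ p)
  letI : Algebra A Γ(X, W) := φW.hom.toAlgebra
  letI : Algebra A Γ(X, U) := φU.hom.toAlgebra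
  haveI : X.IsSeparated := ⟨by rw [← terminal.comp_from p]; infer_instance⟩
  have hV : IsAffineOpen (W ⊓ U) := hW.inf hU
  let rW := X.presheaf.map (homOfLE (inf_le_left : W ⊓ U ≤ W)).op
  let rU := X.presheaf.map (homOfLE (inf_le_right : W ⊓ U ≤ U)).op
  have hcomm : φW ≫ rW = φU ≫ rU := by
    apply Spec.map_injective
    rw [Spec.map_comp, Spec.map_comp, Spec.map_preimage, Spec.map_preimage, IsAffineOpen.map_fromSpec_assoc,
      IsAffineOpen.map_fromSpec_assoc]
    exact hV
  letI : Algebra A Γ(X, W ⊓ U) := (φW ≫ rW).hom.toAlgebra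
  let aW : Γ(X, W) →ₐ[A] Γ(X, W ⊓ U) := ⟨rW.hom, fun r => rfl⟩
  let aU : Γ(X, U) →ₐ[A] Γ(X, W ⊓ U) := ⟨rU.hom, fun r => (ConcreteCategory.congr_hom hcomm r).symm⟩
  let ρ : Γ(X, W) ⊗[A] Γ(X, U) →ₐ[A] Γ(X, W ⊓ U) := Algebra.TensorProduct.lift aW aU fun _ _ => mul_comm _ _
  let qW : Spec Γ(X, W) ⟶ Spec (CommRingCat.of A) := Spec.map (CommRingCat.ofHom (algebraMap A Γ(X, W)))
  let qU : Spec Γ(X, U) ⟶ Spec (CommRingCat.of A) := Spec.map (CommRingCat.ofHom (algebraMap A Γ(X, U)))
  have hqW : qW = hW.fromSpec ≫ p := Spec.map_preimage _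
  have hqU : qU = hU.fromSpec ≫ p := Spec.map_preimage _
  let e : Spec Γ(X, W ⊓ U) ⟶ pullback hW.fromSpec hU.fromSpec :=
    pullback.lift (Spec.map rW) (Spec.map rU) ((hW.map_fromSpec hV _).trans (hU.map_fromSpec hV _).symm)
  haveI : IsIso e := by
    let m := pullback.fst hW.fromSpec hU.fromSpec ≫ hW.fromSpec
    have hem : e ≫ m = hV.fromSpec := by
      rw [← Category.assoc, pullback.lift_fst]
      exact hW.map_fromSpec hV _
    have hrange : Set.range m = Set.range hV.fromSpec := by
      rw [IsOpenImmersion.range_pullback_to_base_of_left, hW.range_fromSpec, hU.range_fromSpec, hV.range_fromSpec]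
      rfl
    have : e = (IsOpenImmersion.isoOfRangeEq hV.fromSpec m hrange.symm).hom := by
      rw [← cancel_mono m, hem, IsOpenImmersion.isoOfRangeEq_hom_fac]
    rw [this]
    infer_instance
  let l : Spec Γ(X, W ⊓ U) ⟶ pullback qW qU :=
    e ≫ pullback.mapDesc hW.fromSpec hU.fromSpec p ≫ (pullback.congrHom hqW hqU).inv
  haveI : IsClosedImmersion l := inferInstance
  have hl1 : l ≫ pullback.fst qW qU = Spec.map rW := by
    simp only [l, e, Category.assoc, pullback.congrHom_inv, pullback.mapDesc]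
    erw [pullback.lift_fst, Category.comp_id, pullback.lift_fst, Category.comp_id, pullback.lift_fst]
  have hl2 : l ≫ pullback.snd qW qU = Spec.map rU := by
    simp only [l, e, Category.assoc, pullback.congrHom_inv, pullback.mapDesc]
    erw [pullback.lift_snd, Category.comp_id, pullback.lift_snd, Category.comp_id, pullback.lift_snd]
  have hρ : Spec.map (CommRingCat.ofHom ρ.toRingHom) = l ≫ (pullbackSpecIso A Γ(X, W) Γ(X, U)).hom := by
    rw [← cancel_mono (pullbackSpecIso A Γ(X, W) Γ(X, U)).inv, Category.assoc, Iso.hom_inv_id, Category.comp_id]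
    apply pullback.hom_ext
    · refine Eq.trans ?_ hl1.symm
      rw [Category.assoc, pullbackSpecIso_inv_fst, ← Spec.map_comp]
      congr 1
      ext a
      show ρ (a ⊗ₜ 1) = rW a
      rw [Algebra.TensorProduct.lift_tmul, map_one, mul_one]
      rfl
    · refine Eq.trans ?_ hl2.symm
      rw [Category.assoc, pullbackSpecIso_inv_snd, ← Spec.map_comp]
      congr 1
      ext a
      show ρ (1 ⊗ₜ a) = rU a
      rw [Algebra.TensorProduct.lift_tmul, map_one, one_mul]
      rfl
  haveI : IsClosedImmersion (Spec.map (CommRingCat.ofHom ρ.toRingHom)) := by rw [hρ]; infer_instance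
  have hsurj : Function.Surjective ρ := by
    have h := (IsClosedImmersion.isAffine_surjective_of_isAffine (f := Spec.map (CommRingCat.ofHom ρ.toRingHom))).2
    intro y
    obtain ⟨x, hx⟩ := h ((Scheme.ΓSpecIso _).inv y)
    refine ⟨(Scheme.ΓSpecIso _).hom x, ?_⟩
    have := ConcreteCategory.congr_hom (Scheme.ΓSpecIso_naturality (CommRingCat.ofHom ρ.toRingHom)) x
    simp only [CommRingCat.comp_apply] at this
    rw [hx] at this
    simpa using this.symm
  obtain ⟨t, rfl⟩ := hsurj c
  induction t using TensorProduct.induction_on with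
  | zero => rw [map_zero]; exact zero_mem _
  | tmul a b => exact AddSubmonoid.subset_closure ⟨a, b, Algebra.TensorProduct.lift_tmul _ _ _ a b⟩
  | add x y hx hy => rw [map_add]; exact add_mem hx hy

/-- Functions on `U` describing an affine open `W`. -/
theorem exists_chowData [IsSeparated p] {W U : X.Opens} (hW : IsAffineOpen W) (hU : IsAffineOpen U)
    {J : Type} [Finite J] (w : J → Γ(X, W)) :
    ∃ (I : Type u) (_ : Fintype I) (h : I → Γ(X, U)) (a : I → Γ(X, W)) (c : I → J → Γ(X, U)),
      (∀ i, X.basicOpen (h i) ≤ W) ∧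
      (∀ i j, X.presheaf.map (homOfLE inf_le_right).op (c i j) =
        X.presheaf.map (homOfLE (inf_le_left : W ⊓ U ≤ W)).op (w j) *
          X.presheaf.map (homOfLE inf_le_right).op (h i)) ∧
      ∑ i, X.presheaf.map (homOfLE (inf_le_left : W ⊓ U ≤ W)).op (a i) *
          X.presheaf.map (homOfLE inf_le_right).op (h i) = 1 := by
  classical
  haveI : X.IsSeparated := ⟨by rw [← terminal.comp_from p]; infer_instance⟩
  have hV : IsAffineOpen (W ⊓ U) := hW.inf hU
  let rU := X.presheaf.map (homOfLE (inf_le_right : W ⊓ U ≤ U)).op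
  let rW := X.presheaf.map (homOfLE (inf_le_left : W ⊓ U ≤ W)).op
  -- powers clearing denominators
  have key : ∀ b : Γ(X, U), X.basicOpen b ≤ W → ∀ j, ∃ (N : ℕ) (c : Γ(X, U)), rU c = rW (w j) * rU b ^ N := by
    intro b hb j
    letI := hU.isLocalization_basicOpen b
    obtain ⟨e, c, hc⟩ := IsLocalization.Away.surj (S := Γ(X, X.basicOpen b)) b
      (X.presheaf.map (homOfLE hb).op (w j))
    letI := hV.isLocalization_basicOpen (rU b)
    have hle : X.basicOpen (rU b) ≤ X.basicOpen b := by rw [Scheme.basicOpen_res]; exact inf_le_right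
    have h' := congrArg (X.presheaf.map (homOfLE hle).op) hc
    change X.presheaf.map (homOfLE hle).op (X.presheaf.map (homOfLE hb).op (w j) *
      X.presheaf.map (homOfLE (X.basicOpen_le b)).op b ^ e) =
      X.presheaf.map (homOfLE hle).op (X.presheaf.map (homOfLE (X.basicOpen_le b)).op c) at h'
    have h'' : X.presheaf.map (homOfLE (X.basicOpen_le (rU b))).op (rW (w j) * rU b ^ e) =
        X.presheaf.map (homOfLE (X.basicOpen_le (rU b))).op (rU c) := by
      simp only [map_mul, map_pow, rU, rW, ← CommRingCat.comp_apply, ← Functor.map_comp, ← op_comp,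
        homOfLE_comp] at h' ⊢
      exact h'
    obtain ⟨⟨_, i, rfl⟩, hi⟩ := (IsLocalization.eq_iff_exists (Submonoid.powers (rU b))
      Γ(X, X.basicOpen (rU b))).1 h''
    change rU b ^ i * (rW (w j) * rU b ^ e) = rU b ^ i * rU c at hi
    refine ⟨i + e, b ^ i * c, ?_⟩
    rw [map_mul, map_pow, ← hi, pow_add]
    ring
  -- a cover of `W ⊓ U`
  have hcov : ∀ x : ↥(W ⊓ U), ∃ b : Γ(X, U), X.basicOpen b ≤ W ∧ x.1 ∈ X.basicOpen b := fun x =>
    hU.exists_basicOpen_le (V := W) ⟨x.1, x.2.1⟩ x.2.2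
  choose b hb hxb using hcov
  obtain ⟨T, hT⟩ := hV.isCompact.elim_finite_subcover (fun x => (X.basicOpen (b x) : Set X))
    (fun x => (X.basicOpen (b x)).2) fun x hx => Set.mem_iUnion.2 ⟨⟨x, hx⟩, hxb _⟩
  haveI := Fintype.ofFinite J
  choose N cN hN using fun (x : ↥(W ⊓ U)) j => key (b x) (hb x) j
  let M : ↥(W ⊓ U) → ℕ := fun x => Finset.univ.sup (N x) + 1
  let g : ↥(W ⊓ U) → Γ(X, U) := fun x => b x ^ M x
  have hgW : ∀ x, X.basicOpen (g x) ≤ W := fun x => by
    rw [Scheme.basicOpen_pow _ _ (Nat.succ_pos _)]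
    exact hb x
  have hgw : ∀ x j, rU (b x ^ (M x - N x j) * cN x j) = rW (w j) * rU (g x) := fun x j => by
    have hle : N x j ≤ M x := (Finset.le_sup (f := N x) (Finset.mem_univ j)).trans (Nat.le_succ _)
    rw [map_mul, hN, map_pow, map_pow, mul_left_comm, ← pow_add, Nat.sub_add_cancel hle]
  have hspan : Ideal.span (Set.range fun x : T => rU (g x.1)) = ⊤ := by
    rw [← hV.self_le_iSup_basicOpen_iff]
    intro x hx
    obtain ⟨y, hy, hxy⟩ := Set.mem_iUnion₂.1 (hT hx)
    refine Opens.mem_iSup.2 ⟨⟨_, ⟨⟨y, hy⟩, rfl⟩⟩, ?_⟩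
    show x ∈ X.basicOpen (rU (g y))
    rw [Scheme.basicOpen_res, Scheme.basicOpen_pow _ _ (Nat.succ_pos _)]
    exact ⟨hx, hxy⟩
  obtain ⟨d, hd⟩ := Ideal.mem_span_range_iff_exists_fun.1 (hspan ▸ Submodule.mem_top :
    (1 : Γ(X, W ⊓ U)) ∈ Ideal.span (Set.range fun x : T => rU (g x.1)))
  have hdx : ∀ x : T, ∃ l : List (Γ(X, W) × Γ(X, U)), (l.map fun q => rW q.1 * rU q.2).sum = d x := by
    intro x
    have hm := exists_sum_res p hW hU (d x)
    generalize d x = z at hm ⊢
    induction hm using AddSubmonoid.closure_induction with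
    | mem z hz =>
      obtain ⟨a, b', rfl⟩ := hz
      exact ⟨[(a, b')], by simp [rU, rW]⟩
    | zero => exact ⟨[], rfl⟩
    | add y z _ _ hy hz =>
      obtain ⟨l, hl⟩ := hy
      obtain ⟨l', hl'⟩ := hz
      exact ⟨l ++ l', by rw [List.map_append, List.sum_append, hl, hl']⟩
  choose l hl using hdx
  refine ⟨Σ x : T, Fin (l x).length, inferInstance, fun i => g i.1.1 * ((l i.1).get i.2).2,
    fun i => ((l i.1).get i.2).1,
    fun i j => b i.1.1 ^ (M i.1.1 - N i.1.1 j) * cN i.1.1 j * ((l i.1).get i.2).2, fun i => ?_, fun i j => ?_, ?_⟩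
  · rw [Scheme.basicOpen_mul]
    exact inf_le_left.trans (hgW _)
  · show rU (_ * _) = rW (w j) * rU (_ * _)
    rw [map_mul, hgw, map_mul, mul_assoc]
  · rw [← Finset.univ_sigma_univ, Finset.sum_sigma]
    refine Eq.trans ?_ hd
    refine Finset.sum_congr rfl fun x _ => ?_
    rw [← hl x, ← List.ofFn_get (List.map _ _), List.sum_ofFn, Finset.sum_mul]
    refine Fintype.sum_equiv (finCongr (by simp)) _ _ fun k => ?_
    simp only [List.get_eq_getElem, List.getElem_map, finCongr_apply, Fin.val_cast]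
    show rW _ * rU (g x.1 * _) = rW _ * rU _ * rU (g x.1)
    rw [map_mul]
    ring

end Groth.Agent.AmpleFamLib
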