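import Groth.Agent.AmpleFamLib.Blow
import Groth.Agent.StratX.Quot
import Groth.Agent.ApproxZLib.Absolute

/-!
Completely decomposed modifications with ample families.
-/

set_option autoImplicit false
set_option linter.style.haveILetI false

universe u

open CategoryTheory CategoryTheory.Limits AlgebraicGeometry TopologicalSpace Opposite

noncomputable section

namespace Groth.Agent.AmpleFamLib

variable {X Y Z : Scheme.{u}}

/-- The point `x` lifts along `f` without residue field extension. -/
def Lifts (f : Y ⟶ X) (x : X) : Prop :=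
  ∃ T : Spec (X.residueField x) ⟶ Y, T ≫ f = X.fromSpecResidueField x

theorem Lifts.comp {g : Z ⟶ Y} {f : Y ⟶ X} {x : X} (T : Spec (X.residueField x) ⟶ Z)
    (h : T ≫ g ≫ f = X.fromSpecResidueField x) : Lifts (g ≫ f) x := ⟨T, h⟩

theorem bijective_residueFieldMap_of_surjective_stalkMap (f : Y ⟶ X) (y : Y)
    (h : Function.Surjective (f.stalkMap y).hom) : Function.Bijective (f.residueFieldMap y) := by
  refine ⟨RingHom.injective (f.residueFieldMap y).hom, fun a => ?_⟩
  obtain ⟨b, rfl⟩ := Y.residue_surjective y a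
  obtain ⟨c, rfl⟩ := h b
  exact ⟨X.residue (f y) c, ConcreteCategory.congr_hom (Scheme.residue_residueFieldMap f y) c⟩

theorem lifts_of_isPreimmersion (f : Y ⟶ X) [IsPreimmersion f] {x : X} (hx : x ∈ Set.range f) : Lifts f x := by
  obtain ⟨y, rfl⟩ := hx
  haveI : IsIso (f.residueFieldMap y) := (ConcreteCategory.isIso_iff_bijective _).2
    (bijective_residueFieldMap_of_surjective_stalkMap f y (f.stalkMap_surjective y))
  refine ⟨Spec.map (inv (f.residueFieldMap y)) ≫ Y.fromSpecResidueField y, ?_⟩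
  rw [Category.assoc, ← Scheme.Hom.SpecMap_residueFieldMap_fromSpecResidueField, ← Spec.map_comp_assoc,
    IsIso.hom_inv_id, Spec.map_id, Category.id_comp]

theorem Lifts.exists_point {f : Y ⟶ X} {x : X} (h : Lifts f x) :
    ∃ y : Y, f y = x ∧ Function.Bijective (f.residueFieldMap y) := by
  obtain ⟨T, hT⟩ := h
  let p : Spec (X.residueField x) := IsLocalRing.closedPoint (X.residueField x)
  refine ⟨T p, ?_, RingHom.injective (f.residueFieldMap (T p)).hom, ?_⟩
  · rw [← Scheme.Hom.comp_apply, hT, Scheme.fromSpecResidueField_apply]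
  · have hb : Function.Bijective ((T ≫ f).residueFieldMap p) := by
      rw [hT]
      exact bijective_residueFieldMap_of_surjective_stalkMap _ p
        ((X.fromSpecResidueField x).stalkMap_surjective p)
    rw [Scheme.residueFieldMap_comp] at hb
    intro a
    obtain ⟨c, hc⟩ := hb.2 (T.residueFieldMap p a)
    exact ⟨c, RingHom.injective (T.residueFieldMap p).hom hc⟩

theorem lifts_pullback_snd {X₀ Y₀ : Scheme.{u}} (f : Y₀ ⟶ X₀) (v : X ⟶ X₀) {x : X} (h : Lifts f (v x)) :
    Lifts (pullback.snd f v) x := by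
  obtain ⟨T, hT⟩ := h
  refine ⟨pullback.lift (Spec.map (v.residueFieldMap x) ≫ T) (X.fromSpecResidueField x) ?_,
    pullback.lift_snd _ _ _⟩
  rw [Category.assoc, hT, Scheme.Hom.SpecMap_residueFieldMap_fromSpecResidueField]

/-- An ample family pulls back along an affine morphism. -/
theorem hasAmpleFamily_of_isAffineHom (f : X ⟶ Y) [IsAffineHom f] (hY : MoreMor.HasAmpleFamily Y) :
    MoreMor.HasAmpleFamily X := by
  haveI := hY.1
  refine ⟨QuasiCompact.compactSpace_of_compactSpace f, fun x => ?_⟩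
  obtain ⟨M, n, s, hM, -, hys, hya⟩ := hY.2 (f x)
  have hP := AmpleLib.isInvertible_tensorPow hM n
  have hloc := AmpleLib.genLocus_pullS f hP s
  refine ⟨_, 1, AmpleLib.pullS f s ≫ (AmpleLib.powOne _).symm.hom, AmpleLib.isInvertible_pullback f hP, le_rfl, ?_⟩
  rw [AmpleLib.genLocus_comp_iso, hloc]
  exact ⟨hys, hya.preimage f⟩

/-- An irreducible reduced closed piece with an affine open cover having nonempty intersection. -/
structure Piece (X : Scheme.{u}) where
  Z : Scheme.{u}
  g : Z ⟶ X
  imm : IsClosedImmersion g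
  κ : Type
  fin : Finite κ
  ne : Nonempty κ
  U : κ → Z.affineOpens
  cover : ∀ z, ∃ i, z ∈ (U i).1

/-- The image of the intersection of the cover. -/
def Piece.core (S : Piece X) : Set X := S.g '' {z | ∀ i, z ∈ (S.U i).1}

/-- `C` is covered by finitely many cores. -/
def Covered (C : Set X) : Prop :=
  ∃ (J : Type u) (_ : Finite J) (S : J → Piece X), C ⊆ ⋃ j, (S j).core

theorem covered_union {C D : Set X} (hC : Covered C) (hD : Covered D) : Covered (C ∪ D) := by
  obtain ⟨J, _, S, hS⟩ := hC
  obtain ⟨J', _, S', hS'⟩ := hD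
  refine ⟨J ⊕ J', inferInstance, Sum.elim S S', Set.union_subset ?_ ?_⟩
  · exact hS.trans (Set.iUnion_subset fun j => Set.subset_iUnion (fun k => (Sum.elim S S' k).core) (Sum.inl j))
  · exact hS'.trans (Set.iUnion_subset fun j => Set.subset_iUnion (fun k => (Sum.elim S S' k).core) (Sum.inr j))

theorem covered_empty : Covered (∅ : Set X) :=
  ⟨PEmpty, inferInstance, PEmpty.elim, Set.empty_subset _⟩

theorem covered_mono {C D : Set X} (h : C ⊆ D) (hD : Covered D) : Covered C := by
  obtain ⟨J, hJ, S, hS⟩ := hD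
  exact ⟨J, hJ, S, h.trans hS⟩

theorem covered_closeds [IsNoetherian X] (C : Closeds X) : Covered (C : Set X) := by
  induction C using WellFoundedLT.induction with
  | ind C ih =>
    by_cases hC : IsIrreducible (C : Set X)
    · let Z := (Scheme.IdealSheafData.vanishingIdeal C).subscheme
      let g : Z ⟶ X := (Scheme.IdealSheafData.vanishingIdeal C).subschemeι
      have hr : Set.range g = C := by
        rw [Scheme.IdealSheafData.range_subschemeι, Scheme.IdealSheafData.coe_support_vanishingIdeal]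
      haveI : CompactSpace Z := QuasiCompact.compactSpace_of_compactSpace g
      obtain ⟨η, hη⟩ := QuasiSober.sober hC C.isClosed
      obtain ⟨z, hz⟩ : η ∈ Set.range g := hr.ge hη.mem
      have hgen : ∀ w : Z, z ⤳ w := fun w => by
        rw [← g.isClosedEmbedding.isInducing.specializes_iff, hz]
        exact hη.specializes (hr.le ⟨w, rfl⟩)
      have hex : ∀ w : Z, ∃ U : Z.affineOpens, w ∈ U.1 := fun w => by
        obtain ⟨_, ⟨U, hU, rfl⟩, hwU, -⟩ :=
          Z.isBasis_affineOpens.exists_subset_of_mem_open (Set.mem_univ w) isOpen_univ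
        exact ⟨⟨U, hU⟩, hwU⟩
      choose U hU using hex
      obtain ⟨t, ht⟩ := isCompact_univ.elim_finite_subcover (fun w : Z => ((U w).1 : Set Z))
        (fun w => (U w).1.isOpen) fun w _ => Set.mem_iUnion.2 ⟨w, hU w⟩
      obtain ⟨m, ⟨e⟩⟩ := Finite.exists_equiv_fin t
      have hcov : ∀ w : Z, ∃ i : Fin m, w ∈ (U (e.symm i).1).1 := fun w => by
        obtain ⟨a, ha, hwa⟩ := Set.mem_iUnion₂.1 (ht (Set.mem_univ w))
        exact ⟨e ⟨a, ha⟩, by rw [Equiv.symm_apply_apply]; exact hwa⟩
      let S : Piece X := ⟨Z, g, inferInstance, Fin m, inferInstance, ⟨(hcov z).choose⟩,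
        fun i => U (e.symm i).1, hcov⟩
      let V : Z.Opens := ⟨{w | ∀ i, w ∈ (S.U i).1}, by
        rw [Set.ofPred_forall]
        exact isOpen_iInter_of_finite fun i => (S.U i).1.isOpen⟩
      have hzV : z ∈ V := fun i => (hgen (e.symm i).1).mem_open (U (e.symm i).1).1.isOpen (hU _)
      let C' : Closeds X := ⟨g '' (V : Set Z)ᶜ, g.isClosedEmbedding.isClosedMap _ V.isOpen.isClosed_compl⟩
      have hlt : C' < C := by
        refine lt_of_le_of_ne ?_ fun h => ?_
        · rintro _ ⟨w, -, rfl⟩
          exact hr.le ⟨w, rfl⟩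
        · obtain ⟨w, hw, hwη⟩ := (show η ∈ C' from h ▸ hη.mem)
          exact hw (g.isClosedEmbedding.injective (hwη.trans hz.symm) ▸ hzV)
      have hS : Covered S.core := ⟨PUnit.{u + 1}, inferInstance, fun _ => S,
        Set.subset_iUnion (fun _ : PUnit.{u + 1} => S.core) PUnit.unit⟩
      refine covered_mono ?_ (covered_union hS (ih C' hlt))
      intro x hx
      obtain ⟨w, rfl⟩ := hr.ge hx
      by_cases hw : w ∈ V
      · exact Or.inl ⟨w, hw, rfl⟩
      · exact Or.inr ⟨w, hw, rfl⟩
    · obtain ⟨S, hSf, hSc, hSi, hSC⟩ := NoetherianSpace.exists_finite_set_isClosed_irreducible C.isClosed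
      have key : ∀ T : Set (Set X), T.Finite → T ⊆ S → Covered (⋃₀ T) := fun T hT => by
        refine Set.Finite.induction_on _ hT (fun _ => ?_) (fun {a T} _ _ hrec hsub => ?_)
        · rw [Set.sUnion_empty]
          exact covered_empty
        · rw [Set.sUnion_insert]
          refine covered_union ?_ (hrec fun b hb => hsub (Set.mem_insert_of_mem _ hb))
          have haS := hsub (Set.mem_insert a T)
          let A : Closeds X := ⟨a, hSc a haS⟩
          refine ih A (lt_of_le_of_ne (fun x hx => hSC.ge (Set.mem_sUnion.2 ⟨a, haS, hx⟩)) fun h => hC ?_)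
          rw [← h]
          exact hSi a haS
      rw [hSC]
      exact key S hSf subset_rfl

open AmpleLib in
/-- A Noetherian scheme has a completely decomposed modification with an ample family. -/
theorem exists_decomp_noetherian [IsNoetherian X] :
    ∃ (Y : Scheme.{u}) (f : Y ⟶ X), IsProper f ∧ MoreMor.HasAmpleFamily Y ∧ ∀ x, Lifts f x := by
  classical
  obtain ⟨J, _, S, hS⟩ := covered_closeds (⊤ : Closeds X)
  haveI := fun j => (S j).imm
  haveI := fun j => (S j).fin
  let X' := ∐ fun j => (S j).Z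
  let q : X' ⟶ X := Sigma.desc fun j => (S j).g
  let σ : ∀ j, (S j).Z ⟶ X' := Sigma.ι fun j => (S j).Z
  haveI : IsFinite q := StratX.isFinite_sigmaDesc' _ _ fun j => inferInstance
  haveI : IsNoetherian X' :=
    { toIsLocallyNoetherian := LocallyOfFiniteType.isLocallyNoetherian q
      toCompactSpace := QuasiCompact.compactSpace_of_compactSpace q }
  have hsurj : ∀ w : X', ∃ j z, σ j z = w := fun w => by
    obtain ⟨z, hz⟩ := (sigmaOpenCover fun j => (S j).Z).covers w
    exact ⟨_, z, hz⟩
  let U : (∀ j, (S j).κ) → X'.Opens := fun c => ⨆ j, σ j ''ᵁ ((S j).U (c j)).1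
  have hU : ∀ c, IsAffineOpen (U c) := fun c =>
    IsAffineOpen.iSup_of_disjoint (fun j => ((S j).U (c j)).2.image_of_isOpenImmersion (σ j)) fun i j hij =>
      (disjoint_opensRange_sigmaι (fun j => (S j).Z) i j hij).mono
        (Scheme.Hom.image_le_opensRange _ _) (Scheme.Hom.image_le_opensRange _ _)
  have hcover : ∀ w, ∃ c, w ∈ U c := fun w => by
    obtain ⟨j, z, rfl⟩ := hsurj w
    obtain ⟨i, hi⟩ := (S j).cover z
    refine ⟨Function.update (fun k => (S k).ne.some) j i, Opens.mem_iSup.2 ⟨j, z, ?_, rfl⟩⟩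
    rw [Function.update_self]
    exact hi
  let I : (∀ j, (S j).κ) → X'.IdealSheafData := fun c =>
    Scheme.IdealSheafData.vanishingIdeal (U c).compl
  have hI : ∀ c, (I c).support.compl = U c := fun c => Opens.ext (by
    show ((I c).support : Set X')ᶜ = U c
    rw [Scheme.IdealSheafData.coe_support_vanishingIdeal]
    exact compl_compl _)
  obtain ⟨Y, b, hb, hY, hiso⟩ := exists_modification (fun c => (⟨U c, hU c⟩ : X'.affineOpens)) hcover I hI
    fun c V => by
      haveI := IsLocallyNoetherian.component_noetherian V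
      exact Ideal.fg_of_isNoetherianRing _
  haveI := hb
  refine ⟨Y, b ≫ q, inferInstance, hY, fun x => ?_⟩
  obtain ⟨j, z, hz, hzx⟩ := Set.mem_iUnion.1 (hS (Set.mem_univ x))
  obtain ⟨W, hzW, hW⟩ := hiso (σ j z) fun c => Opens.mem_iSup.2 ⟨j, z, hz (c j), rfl⟩
  obtain ⟨T, hT⟩ := lifts_of_isPreimmersion (S j).g ⟨z, hzx⟩
  have hr : Set.range (T ≫ σ j) ⊆ Set.range W.ι := by
    rintro _ ⟨p, rfl⟩
    have hp : (S j).g (T p) = x := by
      rw [← Scheme.Hom.comp_apply, hT, Scheme.fromSpecResidueField_apply]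
    have hpz : T p = z := (S j).g.isClosedEmbedding.injective (hp.trans hzx.symm)
    rw [Scheme.Opens.range_ι, Scheme.Hom.comp_apply, hpz]
    exact hzW
  let l := IsOpenImmersion.lift W.ι (T ≫ σ j) hr
  refine ⟨l ≫ inv (b ∣_ W) ≫ (b ⁻¹ᵁ W).ι, ?_⟩
  simp only [Category.assoc]
  rw [← morphismRestrict_ι_assoc, IsIso.inv_hom_id_assoc, IsOpenImmersion.lift_fac_assoc, Category.assoc]
  show T ≫ Sigma.ι (fun j => (S j).Z) j ≫ Sigma.desc (fun j => (S j).g) = _
  rw [Sigma.ι_desc]
  exact hT

/-- A qcqs scheme has a completely decomposed modification with an ample family. -/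
theorem exists_decomp (X : Scheme.{u}) [CompactSpace X] [QuasiSeparatedSpace X] :
    ∃ (Y : Scheme.{u}) (f : Y ⟶ X), IsProper f ∧ LocallyOfFinitePresentation f ∧ MoreMor.HasAmpleFamily Y ∧
      ∀ x, Lifts f x := by
  obtain ⟨J, _, _, _, D, π, ⟨hlim⟩, hA, hD⟩ := ApproxZLib.exists_absolute_approximation X
  haveI : ∀ {i j : Jᵒᵖ} (a : i ⟶ j), IsAffineHom (D.map a) := fun a => hA _ _ a
  let j : Jᵒᵖ := op (Classical.arbitrary J)
  obtain ⟨hc, hq, hft⟩ := hD j
  haveI := hft
  haveI : IsNoetherianRing (CommRingCat.of (ULift.{u} ℤ)) := isNoetherianRing_of_ringEquiv ℤ ULift.ringEquiv.symm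
  haveI : IsNoetherian (D.obj j) :=
    { toIsLocallyNoetherian := LocallyOfFiniteType.isLocallyNoetherian (specULiftZIsTerminal.from (D.obj j))
      toCompactSpace := hc }
  obtain ⟨Y₀, f₀, hf₀, hY₀, hl⟩ := exists_decomp_noetherian (X := D.obj j)
  haveI := hf₀
  let v : X ⟶ D.obj j := π.app j
  haveI : IsAffineHom v := AlgebraicGeometry.isAffineHom_π_app D (Cone.mk X π) hlim j
  haveI : IsNoetherian Y₀ :=
    { toIsLocallyNoetherian := LocallyOfFiniteType.isLocallyNoetherian f₀
      toCompactSpace := QuasiCompact.compactSpace_of_compactSpace f₀ }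
  haveI : LocallyOfFinitePresentation f₀ := inferInstance
  haveI : IsAffineHom (pullback.fst f₀ v) :=
    MorphismProperty.of_isPullback (P := (@IsAffineHom : MorphismProperty Scheme.{u}))
      (IsPullback.of_hasPullback f₀ v).flip ‹IsAffineHom v›
  exact ⟨pullback f₀ v, pullback.snd f₀ v, inferInstance, inferInstance,
    hasAmpleFamily_of_isAffineHom (pullback.fst f₀ v) hY₀, fun x => lifts_pullback_snd f₀ v (hl (v x))⟩

end Groth.Agent.AmpleFamLib
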