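import Groth.Agent.AVLib.DivSection
import Groth.Agent.AmpleEmb.ComposeRel

/-!
Ample families from effective Cartier divisors with empty common support and modules ample on the complements.
-/

set_option autoImplicit false
set_option linter.style.haveILetI false

universe u

open CategoryTheory CategoryTheory.Limits AlgebraicGeometry TopologicalSpace Opposite
open Groth.Agent.ParaFLib Groth.Agent.PullbackMod Groth.Agent.DCohLib Groth.Agent.AmpleLib Groth.Agent.AmpleEmb

noncomputable section

namespace Groth.Agent.AmpleFamLib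

variable {X : Scheme.{u}}

/-- Finitely many opens `X_{σ i}` covering `X`, with modules ample on them, give an ample family. -/
theorem hasAmpleFamily_of_sections {ι : Type*} [Finite ι] (P : ι → X.Modules) (hP : ∀ i, PicF.IsInvertible (P i))
    (σ : ∀ i, Coh.structureModule X ⟶ P i) (hcov : ∀ x, ∃ i, x ∈ CohB1.genLocus (P i) (σ i))
    (L : ι → X.Modules) (hL : ∀ i, PicF.IsInvertible (L i))
    (hA : ∀ i, AmpleOn (L i) (CohB1.genLocus (P i) (σ i))) : MoreMor.HasAmpleFamily X := by
  haveI : CompactSpace X := by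
    refine ⟨?_⟩
    rw [show (Set.univ : Set X) = ⋃ i, (CohB1.genLocus (P i) (σ i) : Set X) from
      (Set.eq_univ_of_forall fun x => Set.mem_iUnion.2 (hcov x)).symm]
    exact isCompact_iUnion fun i => isCompact_of_ampleOn (hA i)
  haveI : QuasiSeparatedSpace X :=
    quasiSeparatedSpace_of_cover (fun i => CohB1.genLocus (P i) (σ i))
      (fun i => quasiSeparatedSpace_of_isAmple (hA i)) hcov fun i A hA' => by
        rw [Set.inter_comm, ← Opens.coe_inf]
        exact (isAffineOpen_inf_genLocus (hP i) (σ i) hA').isCompact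
  refine ⟨inferInstance, fun x => ?_⟩
  obtain ⟨i, hi⟩ := hcov x
  obtain ⟨m, t, hxt, hta⟩ := (hA i).2.2 ⟨x, hi⟩
  obtain ⟨k, hk⟩ := exists_section_genLocus (isInvertible_tensorPow (hL i) (m + 1)) (hP i) (σ i)
    (t ≫ (restrictPow _ (L i) (m + 1)).symm.hom)
  obtain ⟨Ξ, hΞ⟩ := hk k le_rfl
  have hN := isInvertible_tensor (isInvertible_tensor (isInvertible_tensorPow (hL i) (m + 1))
    (isInvertible_tensorPow (hP i) k)) (hP i)
  refine ⟨_, 1, Ξ ≫ (powOne _).symm.hom, hN, le_rfl, ?_⟩
  rw [genLocus_comp_iso Ξ (powOne _).symm, hΞ, genLocus_comp_iso]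
  exact ⟨⟨⟨x, _⟩, hxt, rfl⟩, hta.image_of_isOpenImmersion _⟩

/-- Effective Cartier divisors with empty common support and modules ample on the complements give an ample
family. -/
theorem hasAmpleFamily_of_divisors {ι : Type*} [Finite ι] (D : ι → X.IdealSheafData)
    (hD : ∀ i, BlowUp.IsEffCartierIdeal (D i)) (hcap : ⋂ i, ((D i).support : Set X) = ∅)
    (L : ι → X.Modules) (hL : ∀ i, PicF.IsInvertible (L i)) (hA : ∀ i, AmpleOn (L i) (D i).support.compl) :
    MoreMor.HasAmpleFamily X := by
  choose P hP he using fun i => exists_isInverseOf ((S8914.result (D i)).2 (hD i))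
  have hsec : ∀ i, ∃ s : Coh.structureModule X ⟶ P i, CohB1.genLocus (P i) s = (D i).support.compl := fun i => by
    obtain ⟨e⟩ := he i
    exact AVLib.exists_section_genLocus_compl (hD i) (hP i) ⟨comm _ _ ≪≫ e⟩
  choose σ hσ using hsec
  refine hasAmpleFamily_of_sections P hP σ (fun x => ?_) L hL fun i => by rw [hσ i]; exact hA i
  by_contra h
  push Not at h
  have : x ∈ ⋂ i, ((D i).support : Set X) := Set.mem_iInter.2 fun i => by
    have hi := h i
    rw [hσ i] at hi
    exact not_not.1 hi
  rw [hcap] at this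
  exact this

end Groth.Agent.AmpleFamLib
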