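import Groth.Agent.DCohLib.Adjoint
import Groth.Agent.QCohLib.Coherent
import Groth.Agent.FormalSysLib.Power
import Groth.Agent.AmpleLib.GenLocus
import Groth.Agent.ProjCoh.PSData
import Groth.Prelude.Def_CxOX

/-!
Coherent modules form a small set up to isomorphism, and homomorphisms on opens extend to coherent
extensions of the source.
-/

set_option autoImplicit false
set_option linter.style.haveILetI false

universe u

open CategoryTheory CategoryTheory.Limits AlgebraicGeometry TopologicalSpace Opposite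

noncomputable section

namespace Groth.Agent.AmpleFamLib

variable (X : Scheme.{u}) [IsNoetherian X]

/-- The morphism from the extension by zero of the structure module defined by a section. -/
def extGen (U : X.Opens) (G : X.Modules) (s : Γ(G.restrict U.ι, ⊤)) :
    (CxOX.extZero U.ι).obj (Coh.structureModule (U : Scheme.{u})) ⟶ G :=
  ((CxOX.extZeroAdj U.ι).homEquiv _ _).symm (DCohLib.secHom (G.restrict U.ι) s)

omit [AlgebraicGeometry.IsNoetherian X] in
theorem restrict_app_eq_of_extGen (U : X.Opens) {G Z : X.Modules} (s : Γ(G.restrict U.ι, ⊤)) (a b : G ⟶ Z)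
    (h : extGen X U G s ≫ a = extGen X U G s ≫ b) :
    ((Scheme.Modules.restrictFunctor U.ι).map a).app ⊤ s = ((Scheme.Modules.restrictFunctor U.ι).map b).app ⊤ s := by
  have h2 := congrArg ((CxOX.extZeroAdj U.ι).homEquiv _ _) h
  rw [extGen, Adjunction.homEquiv_naturality_right, Adjunction.homEquiv_naturality_right,
    Equiv.apply_symm_apply] at h2
  have h3 : ∀ c : G ⟶ Z, AmpleLib.sec (DCohLib.secHom (G.restrict U.ι) s ≫
      (Scheme.Modules.restrictFunctor U.ι).map c) = ((Scheme.Modules.restrictFunctor U.ι).map c).app ⊤ s := fun c =>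
    congrArg (((Scheme.Modules.restrictFunctor U.ι).map c).app ⊤) (AmpleLib.sec_secHom (L := G.restrict U.ι) s)
  exact (h3 a).symm.trans ((congrArg AmpleLib.sec h2).trans (h3 b))

/-- The free module on prescribed numbers of generators over the affine opens. -/
def freeGen (n : X.affineOpens → ℕ) : X.Modules :=
  ∐ fun p : Σ W : X.affineOpens, ULift.{u} (Fin (n W)) =>
    (CxOX.extZero p.1.1.ι).obj (Coh.structureModule (p.1.1 : Scheme.{u}))

theorem exists_epi_freeGen {G : X.Modules} (hG : Coh.IsCoh G) :
    ∃ (n : X.affineOpens → ℕ) (q : freeGen X n ⟶ G), Epi q := by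
  classical
  haveI := hG.1
  let O : X.affineOpens → X.Opens := fun W => W.1.ι ''ᵁ ⊤
  have hO : ∀ W, IsAffineOpen (O W) := fun W => by
    show IsAffineOpen (W.1.ι ''ᵁ ⊤)
    rw [W.1.ι_image_top]
    exact W.2
  choose S hS using fun W : X.affineOpens => (QCohLib.finite_sections_of_isCoh hG (hO W)).fg_top
  let n : X.affineOpens → ℕ := fun W => (S W).card
  let gen : ∀ W : X.affineOpens, ULift.{u} (Fin (n W)) → Γ(G, O W) := fun W i => ((S W).equivFin.symm i.down).1
  let q : freeGen X n ⟶ G := Sigma.desc fun p => extGen X p.1.1 G (gen p.1 p.2)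
  refine ⟨n, q, ⟨fun {Z} a b hab => ?_⟩⟩
  have key : ∀ W i, a.app (O W) (gen W i) = b.app (O W) (gen W i) := fun W i => by
    refine restrict_app_eq_of_extGen X W.1 (gen W i) a b ?_
    have h : extGen X W.1 G (gen W i) = Sigma.ι (fun p : Σ W : X.affineOpens, ULift.{u} (Fin (n W)) =>
      (CxOX.extZero p.1.1.ι).obj (Coh.structureModule (p.1.1 : Scheme.{u}))) ⟨W, i⟩ ≫ q := by
      simp only [q, freeGen, Sigma.ι_desc]
    rw [h]
    exact (Category.assoc _ _ _).trans ((congrArg _ hab).trans (Category.assoc _ _ _).symm)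
  refine FormalSys.hom_ext_cover O hO ?_ fun W s => ?_
  · refine le_of_le_of_eq (iSup_affineOpens_eq_top X).ge ?_
    exact iSup_congr fun W => W.1.ι_image_top.symm
  · have hs : s ∈ Submodule.span Γ(X, O W) (S W : Set Γ(G, O W)) := (hS W).ge trivial
    induction hs using Submodule.span_induction with
    | mem s hs =>
      have := key W ⟨(S W).equivFin ⟨s, hs⟩⟩
      simpa only [gen, Equiv.symm_apply_apply] using this
    | zero => rw [map_zero, map_zero]
    | add s t _ _ hs ht => rw [map_add, map_add, hs, ht]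
    | smul r s _ hs => rw [Scheme.Modules.Hom.app_smul, Scheme.Modules.Hom.app_smul, hs]

/-- A small set of coherent modules containing all of them up to isomorphism. -/
theorem exists_small_coh :
    ∃ (S : Type u) (F : S → X.Modules), (∀ s, Coh.IsCoh (F s)) ∧
      ∀ G : X.Modules, Coh.IsCoh G → ∃ s, Nonempty (G ≅ F s) := by
  refine ⟨Σ n : X.affineOpens → ℕ, Shrink.{u} {P : Subobject (freeGen X n) // Coh.IsCoh (cokernel P.arrow)},
    fun x => cokernel ((equivShrink _).symm x.2).1.arrow, fun x => ((equivShrink _).symm x.2).2, fun G hG => ?_⟩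
  obtain ⟨n, q, hq⟩ := exists_epi_freeGen X hG
  let P : Subobject (freeGen X n) := Subobject.mk (kernel.ι q)
  let i₁ : cokernel P.arrow ≅ cokernel (kernel.ι q) :=
    cokernel.mapIso _ _ (Subobject.underlyingIso (kernel.ι q)) (Iso.refl _) (by simp [P])
  let i₂ : cokernel (kernel.ι q) ≅ G :=
    (cokernelIsCokernel (kernel.ι q)).coconePointUniqueUpToIso
      (Abelian.epiIsCokernelOfKernel (KernelFork.ofι (kernel.ι q) (kernel.condition q)) (kernelIsKernel q))
  let e : G ≅ cokernel P.arrow := (i₁ ≪≫ i₂).symm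
  have hP : Coh.IsCoh (cokernel P.arrow) :=
    ProjCoh.isCoh_of_iso e hG
  exact ⟨⟨n, equivShrink _ ⟨P, hP⟩⟩, ⟨e ≪≫ eqToIso
    (congrArg (fun x : {P : Subobject (freeGen X n) // Coh.IsCoh (cokernel P.arrow)} => cokernel x.1.arrow)
      ((equivShrink _).symm_apply_apply ⟨P, hP⟩)).symm⟩⟩

end Groth.Agent.AmpleFamLib
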