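import Groth.Agent.CurveLib.Euler
import Groth.Agent.CurveLib.Components
import Groth.Agent.SerreAff.Basic
import Groth.Agent.FinSurjLib.Vanish
import Groth.Agent.DCohLib.Restrict
import Groth.Agent.ASp.LiftDim

/-!
Vanishing of cohomology in high degrees along morphisms that are isomorphisms off a small closed set.
-/

set_option autoImplicit false
set_option linter.style.haveILetI false

universe u

open CategoryTheory CategoryTheory.Limits AlgebraicGeometry TopologicalSpace Opposite

noncomputable section

namespace Groth.Agent.AmpleFamLib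

variable {X : Scheme.{u}}

theorem subsingleton_HH_of_isZero {M : X.Modules} (hM : IsZero M) (p : ℕ) : Subsingleton (Coh.HH X M p) := by
  have hz : IsZero ((QCohLib.toAbF X).obj M) := (QCohLib.toAbF X).map_isZero hM
  refine subsingleton_of_forall_eq 0 fun x => ?_
  rw [← Sheaf.H.map_id_apply (x := x), hz.eq_of_src (𝟙 _) 0]
  show x.comp (Abelian.Ext.mk₀ 0) (add_zero p) = 0
  rw [Abelian.Ext.mk₀_zero, Abelian.Ext.comp_zero]

theorem isZero_iff_support {M : X.Modules} : IsZero M ↔ CohB1.support M = ∅ := by
  refine ⟨fun h => Set.eq_empty_iff_forall_notMem.2 fun x hx => hx ?_, fun h => ?_⟩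
  · exact AddCommGrpCat.subsingleton_of_isZero
      (Functor.map_isZero (Scheme.Modules.toPresheaf X ⋙ TopCat.Presheaf.stalkFunctor _ x) h)
  · rw [IsZero.iff_id_eq_zero]
    refine Scheme.Modules.hom_ext _ _ fun U => ?_
    ext s
    refine TopCat.Presheaf.section_ext ⟨M.presheaf, M.isSheaf⟩ U _ _ fun x _ => ?_
    haveI : Subsingleton (M.presheaf.stalk x) := by
      by_contra hc
      exact Set.eq_empty_iff_forall_notMem.1 h x hc
    exact Subsingleton.elim _ _

theorem support_subset_compl_of_isZero (U : X.Opens) {M : X.Modules}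
    (h : IsZero ((Scheme.Modules.restrictFunctor U.ι).obj M)) : CohB1.support M ⊆ (U : Set X)ᶜ := by
  intro x hx hxU
  have h0 := Set.eq_empty_iff_forall_notMem.1 (isZero_iff_support.1 h) ⟨x, hxU⟩
  exact h0 fun hs => hx (@Equiv.subsingleton _ _
    ((Scheme.Modules.restrictStalkNatIso U.ι ⟨x, hxU⟩).app M).addCommGroupIsoToAddEquiv.toEquiv.symm hs)

theorem support_kernel_subset_compl (U : X.Opens) {A B : X.Modules} (α : A ⟶ B)
    (h : Mono ((Scheme.Modules.restrictFunctor U.ι).map α)) : CohB1.support (kernel α) ⊆ (U : Set X)ᶜ :=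
  support_subset_compl_of_isZero U
    ((isZero_kernel_of_mono ((Scheme.Modules.restrictFunctor U.ι).map α)).of_iso
      (PreservesKernel.iso (Scheme.Modules.restrictFunctor U.ι) α))

theorem support_cokernel_subset_compl (U : X.Opens) {A B : X.Modules} (α : A ⟶ B)
    (h : Epi ((Scheme.Modules.restrictFunctor U.ι).map α)) : CohB1.support (cokernel α) ⊆ (U : Set X)ᶜ :=
  support_subset_compl_of_isZero U
    ((isZero_cokernel_of_epi ((Scheme.Modules.restrictFunctor U.ι).map α)).of_iso
      (PreservesCokernel.iso (Scheme.Modules.restrictFunctor U.ι) α))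

/-- Cohomology of a submodule. -/
theorem subsingleton_HH_left {T : ShortComplex X.Modules} (hT : T.ShortExact) (n : ℕ)
    (h3 : Subsingleton (Coh.HH X T.X₃ n)) (h2 : Subsingleton (Coh.HH X T.X₂ (n + 1))) :
    Subsingleton (Coh.HH X T.X₁ (n + 1)) := by
  refine CohBase.subsingleton_HH _ _ (subsingleton_of_forall_eq 0 fun x => ?_)
  let T' := T.map (QCohLib.toAbF X)
  haveI : Subsingleton (CohBase.HU (⊤ : X.Opens) T'.X₃ n) := SerreAff.subsingleton_HU_top h3
  haveI : Subsingleton (CohBase.HU (⊤ : X.Opens) T'.X₂ (n + 1)) := SerreAff.subsingleton_HU_top h2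
  obtain ⟨y, hy⟩ := Abelian.Ext.covariant_sequence_exact₁ (CohBase.freeAb (⊤ : X.Opens))
    (QCohLib.toAb_shortExact hT) x (Subsingleton.elim _ _) rfl
  rw [← hy, Subsingleton.elim y 0, Abelian.Ext.zero_comp]
  rfl

/-- Vanishing passes to the target. -/
theorem subsingleton_HH_target {A B : X.Modules} (α : A ⟶ B) (i : ℕ) (hA : Subsingleton (Coh.HH X A i))
    (hK : Subsingleton (Coh.HH X (kernel α) (i + 1))) (hC : Subsingleton (Coh.HH X (cokernel α) i)) :
    Subsingleton (Coh.HH X B i) := by
  let S₁ : ShortComplex X.Modules := ShortComplex.mk (kernel.ι α) (Abelian.factorThruImage α) (by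
    rw [← cancel_mono (Abelian.image.ι α), Category.assoc, Abelian.image.fac, kernel.condition, zero_comp])
  let S₂ : ShortComplex X.Modules := ShortComplex.mk (Abelian.image.ι α) (cokernel.π α) (kernel.condition _)
  have h₁ : S₁.ShortExact := ShortComplex.ShortExact.mk' (ShortComplex.exact_of_f_is_kernel _
    (isKernelOfComp (Abelian.image.ι α) α (kernelIsKernel α) _
      (Abelian.image.fac α))) inferInstance inferInstance
  have h₂ : S₂.ShortExact := ShortComplex.ShortExact.mk'
    (ShortComplex.exact_of_f_is_kernel _ (kernelIsKernel (cokernel.π α))) inferInstance inferInstance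
  exact SerreAff.subsingleton_mid h₂ i (FinSurjLib.subsingleton_right h₁ i hA hK) hC

/-- Vanishing passes to the source. -/
theorem subsingleton_HH_source {A B : X.Modules} (α : A ⟶ B) (j : ℕ) (hB : Subsingleton (Coh.HH X B (j + 1)))
    (hK : Subsingleton (Coh.HH X (kernel α) (j + 1))) (hC : Subsingleton (Coh.HH X (cokernel α) j)) :
    Subsingleton (Coh.HH X A (j + 1)) := by
  let S₂ : ShortComplex X.Modules := ShortComplex.mk (Abelian.image.ι α) (cokernel.π α) (kernel.condition _)
  have h₂ : S₂.ShortExact := ShortComplex.ShortExact.mk'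
    (ShortComplex.exact_of_f_is_kernel _ (kernelIsKernel (cokernel.π α))) inferInstance inferInstance
  let S₁ : ShortComplex X.Modules := ShortComplex.mk (kernel.ι α) (Abelian.factorThruImage α) (by
    rw [← cancel_mono (Abelian.image.ι α), Category.assoc, Abelian.image.fac, kernel.condition, zero_comp])
  have h₁ : S₁.ShortExact := ShortComplex.ShortExact.mk' (ShortComplex.exact_of_f_is_kernel _
    (isKernelOfComp (Abelian.image.ι α) α (kernelIsKernel α) _
      (Abelian.image.fac α))) inferInstance inferInstance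
  exact SerreAff.subsingleton_mid h₁ (j + 1) hK (subsingleton_HH_left h₂ j hC hB)

/-- Coheight bounds the dimension of a closed subset. -/
theorem topologicalKrullDim_le_of_stalk {C : Set X} (hC : IsClosed C) {m d : ℕ}
    (hd : topologicalKrullDim X ≤ d) (h : ∀ x ∈ C, (m : WithBot ℕ∞) ≤ ringKrullDim (X.presheaf.stalk x))
    (hne : C.Nonempty) : m ≤ d ∧ topologicalKrullDim C ≤ ((d - m : ℕ) : WithBot ℕ∞) := by
  letI := specializationPreorder X
  rw [ASp.topologicalKrullDim_eq_krullDim] at hd
  have key : ∀ s : LTSeries {x : X // x ∈ C}, s.length + m ≤ d := fun s => by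
    have hlast := h _ s.last.2
    rw [ringKrullDim_stalk_eq_coheight] at hlast
    obtain ⟨q, hq, hql⟩ := Order.exists_series_of_le_coheight s.last.1 (WithBot.coe_le_coe.1 hlast)
    have hmono : StrictMono (Subtype.val : {x : X // x ∈ C} → X) := fun _ _ hab => hab
    let p : LTSeries X := RelSeries.smash (s.map Subtype.val hmono) q (by rw [hq]; rfl)
    have := (Order.LTSeries.length_le_krullDim p).trans hd
    have hp : p.length = s.length + m := by rw [← hql]; rfl
    rw [hp] at this
    exact_mod_cast this
  obtain ⟨x, hx⟩ := hne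
  refine ⟨by have := key (RelSeries.singleton _ ⟨x, hx⟩); simpa using this, ?_⟩
  haveI : QuasiSober C := hC.isClosedEmbedding_subtypeVal.quasiSober
  rw [ASp.topologicalKrullDim_eq_krullDim]
  refine iSup_le fun s => ?_
  let s' : LTSeries {x : X // x ∈ C} :=
    ⟨s.length, fun i => s.toFun i, fun i => ⟨(subtype_specializes_iff _ _).1 (s.step i).1,
      fun h' => (s.step i).2 ((subtype_specializes_iff _ _).2 h')⟩⟩
  have := key s'
  exact_mod_cast Nat.le_sub_of_add_le (show s.length + m ≤ d from this)

/-- Vanishing for modules supported in codimension `m`. -/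
theorem subsingleton_HH_of_codim [IsNoetherian X] {C : Set X} (hC : IsClosed C) {m d : ℕ}
    (hd : topologicalKrullDim X ≤ d) (h : ∀ x ∈ C, (m : WithBot ℕ∞) ≤ ringKrullDim (X.presheaf.stalk x))
    {M : X.Modules} (hM : CohB1.support M ⊆ C) {j : ℕ} (hj : d < j + m) : Subsingleton (Coh.HH X M j) := by
  rcases C.eq_empty_or_nonempty with hC0 | hne
  · exact subsingleton_HH_of_isZero (isZero_iff_support.2 (Set.subset_empty_iff.1 (hC0 ▸ hM))) j
  · obtain ⟨hmd, hdim⟩ := topologicalKrullDim_le_of_stalk hC hd h hne
    exact CurveLib.subsingleton_HH_of_support M hC hM hdim (by omega)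

end Groth.Agent.AmpleFamLib
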